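import Groth.Agent.DualLib.TorAmpOps
import Groth.Agent.DualLib.FlatDualizing
import Groth.Agent.DualLib.ShriekFlat
import Groth.Agent.CAlgH3.PdPolynomial
import Mathlib.Algebra.Homology.DerivedCategory.ShortExact

/-!
# Tor amplitude over polynomial rings
-/

set_option autoImplicit false
set_option backward.isDefEq.respectTransparency false
set_option backward.defeqAttrib.useBackward true
set_option linter.style.haveILetI false
set_option linter.unusedSectionVars false

universe u

open CategoryTheory CategoryTheory.Limits CategoryTheory.Pretriangulated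
open scoped TensorProduct ChangeOfRings

attribute [local instance] HasDerivedCategory.standard

namespace Groth.Agent.Dual6Lib.RD

open Groth.Agent Groth.Agent.DualLib Groth.Agent.DualLib.Shriek

variable {A B C : Type u} [CommRing A] [CommRing B] [CommRing C]

/-- Restriction along a composite. -/
theorem nonempty_restrictD_comp (f : A →+* B) (g : B →+* C) (h : A →+* C) (hh : h = g.comp f) (K : Dual.D C) :
    Nonempty ((DRing.restrictD f).obj ((DRing.restrictD g).obj K) ≅ (DRing.restrictD h).obj K) := by
  subst hh
  let L := DerivedCategory.Q.objPreimage K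
  let e : DerivedCategory.Q.obj L ≅ K := DerivedCategory.Q.objObjPreimageIso K
  let c : (DRing.restrictCx f).obj ((DRing.restrictCx g).obj L) ≅ (DRing.restrictCx (g.comp f)).obj L :=
    HomologicalComplex.Hom.isoOfComponents (fun i => ((ModuleCat.restrictScalarsComp.{u} f g).app (L.X i)).symm)
      fun i j _ => by ext; rfl
  exact ⟨(DRing.restrictD f).mapIso ((DRing.restrictD g).mapIso e.symm ≪≫
      (ModuleCat.restrictScalars.{u} g).mapDerivedCategoryFactors.app L) ≪≫
    (ModuleCat.restrictScalars.{u} f).mapDerivedCategoryFactors.app _ ≪≫ DerivedCategory.Q.mapIso c ≪≫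
    ((ModuleCat.restrictScalars.{u} (g.comp f)).mapDerivedCategoryFactors.app L).symm ≪≫
    (DRing.restrictD (g.comp f)).mapIso e⟩

section Extend

variable (g : A →+* B)

/-- Extension along a flat map preserves tor amplitude. -/
theorem amp_exF (hg : g.Flat) (L : DRing.Cx A) {a b : ℤ} (h : DRing.HasTorAmplitudeIn A a b (DRing.toD L)) :
    DRing.HasTorAmplitudeIn B a b (DRing.toD ((exCx g).obj L)) := by
  letI := g.toAlgebra
  haveI : Module.Flat A B := hg
  haveI := preservesFiniteLimits_flat (A := A) (B := B)
  haveI := preservesFiniteColimits_ext (A := A) (B := B)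
  obtain ⟨E, hE, hf, ⟨e⟩⟩ := h
  let F := ModuleCat.extendScalars.{u, u, u} g
  refine ⟨(exCx g).obj E, fun i hi => F.map_isZero (hE i hi), fun i => ?_,
    ⟨(F.mapDerivedCategoryFactors.app E).symm ≪≫ F.mapDerivedCategory.mapIso e ≪≫ F.mapDerivedCategoryFactors.app L⟩⟩
  haveI := hf i
  exact (inferInstance : Module.Flat B (B ⊗[A] (E.X i)))

end Extend

section Step

variable [Algebra A B] (x : B)

/-- `res ⋙ ext`. -/
noncomputable abbrev re : ModuleCat.{u} B ⥤ ModuleCat.{u} B :=
  ModuleCat.restrictScalars.{u} (algebraMap A B) ⋙ ModuleCat.extendScalars.{u, u, u} (algebraMap A B)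

/-- The characteristic endomorphism. -/
noncomputable def chiNat : re (A := A) (B := B) ⟶ re (A := A) (B := B) where
  app M := (re (A := A) (B := B)).map (x • 𝟙 M) - x • 𝟙 _
  naturality M N f := by
    rw [Preadditive.comp_sub, Preadditive.sub_comp, Linear.comp_smul, Linear.smul_comp, Category.comp_id,
      Category.id_comp, ← Functor.map_comp, ← Functor.map_comp, Linear.comp_smul, Linear.smul_comp, Category.comp_id,
      Category.id_comp]

end Step


/-- The characteristic sequence. -/
theorem exists_shortExact [Algebra A B] (e : Polynomial A ≃ₐ[A] B) (M : ModuleCat.{u} B) :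
    ∃ h : (chiNat (A := A) (e Polynomial.X)).app M ≫
        (ModuleCat.extendRestrictScalarsAdj (algebraMap A B)).counit.app M = 0,
      (ShortComplex.mk _ _ h).ShortExact := by
  letI : Module A M := Module.compHom M (algebraMap A B)
  haveI : IsScalarTower A B M := IsScalarTower.of_algebraMap_smul fun _ _ => rfl
  obtain ⟨w, hw⟩ : ∃ w : B ⊗[A] (M : Type u) ≃ₗ[B] (re (A := A) (B := B)).obj M,
      ∀ m : (M : Type u), w (1 ⊗ₜ m) = one_t (algebraMap A B) (show (ModuleCat.restrictScalars.{u} (algebraMap A B)).obj M from m) := by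
    have key : ∀ (φ : A →+* B) (i' : Algebra A B), φ.toAlgebra = i' →
        (letI := i'; letI : Module A M := Module.compHom M φ
         ∀ (_ : IsScalarTower A B M), ∃ w : B ⊗[A] (M : Type u) ≃ₗ[B]
          (ModuleCat.extendScalars.{u, u, u} φ).obj ((ModuleCat.restrictScalars.{u} φ).obj M),
          ∀ m : (M : Type u), w (1 ⊗ₜ m) = one_t φ (show (ModuleCat.restrictScalars.{u} φ).obj M from m)) := by
      rintro φ _ rfl
      letI := φ.toAlgebra
      exact fun _ => ⟨LinearEquiv.refl B _, fun m => rfl⟩
    exact key (algebraMap A B) inferInstance (Algebra.algebra_ext _ _ fun _ => rfl) inferInstance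
  let c := (ModuleCat.extendRestrictScalarsAdj (algebraMap A B)).counit.app M
  let χ := (chiNat (A := A) (e Polynomial.X)).app M
  have hc : ∀ z, c.hom (w z) = CAlgH3.PdPolynomial.act (S := A) (B := B) M z := by
    intro z
    induction z using TensorProduct.induction_on with
    | zero => exact ((congrArg c.hom (map_zero w)).trans (map_zero c.hom)).trans (map_zero _).symm
    | add z z' hz hz' =>
      exact ((congrArg c.hom (map_add w z z')).trans (map_add c.hom _ _)).trans
        ((congrArg₂ (· + ·) hz hz').trans (map_add _ z z').symm)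
    | tmul b m =>
      show c.hom (w (b ⊗ₜ m)) = b • m
      rw [← mul_one b, ← smul_eq_mul, ← TensorProduct.smul_tmul', map_smul, map_smul, hw, smul_eq_mul, mul_one]
      congr 1
      exact one_smul B m
  have hx : ∀ z, χ.hom (w z) = w (CAlgH3.PdPolynomial.chi e M z) := by
    intro z
    induction z using TensorProduct.induction_on with
    | zero =>
      exact ((congrArg χ.hom (map_zero w)).trans (map_zero χ.hom)).trans
        ((congrArg w (map_zero (CAlgH3.PdPolynomial.chi e (M : Type u)))).trans (map_zero w)).symm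
    | add z z' hz hz' =>
      exact ((congrArg χ.hom (map_add w z z')).trans (map_add χ.hom _ _)).trans
        ((congrArg₂ (· + ·) hz hz').trans
          ((congrArg w (map_add (CAlgH3.PdPolynomial.chi e (M : Type u)) z z')).trans (map_add w _ _)).symm)
    | tmul b m =>
      show χ.hom (w (b ⊗ₜ m)) = w (CAlgH3.PdPolynomial.chi e M (b ⊗ₜ m))
      rw [← mul_one b, ← smul_eq_mul, ← TensorProduct.smul_tmul', map_smul, map_smul, map_smul, map_smul]
      congr 1
      rw [CAlgH3.PdPolynomial.chi_tmul, map_sub, mul_one, hw, hw]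
      have h2 : w ((e Polynomial.X) ⊗ₜ[A] m) = e Polynomial.X •
          one_t (algebraMap A B) (show (ModuleCat.restrictScalars.{u} (algebraMap A B)).obj M from m) := by
        rw [← hw]
        refine (congrArg w ?_).trans (map_smul w (e Polynomial.X) ((1 : B) ⊗ₜ[A] m))
        rw [TensorProduct.smul_tmul', smul_eq_mul, mul_one]
      rw [h2]
      rfl
  have h0 : χ ≫ c = 0 := ModuleCat.hom_ext (LinearMap.ext fun y => by
    obtain ⟨z, rfl⟩ := w.surjective y
    show c.hom (χ.hom (w z)) = 0
    rw [hx, hc]
    exact LinearMap.congr_fun (CAlgH3.PdPolynomial.act_comp_chi e (M : Type u)) z)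
  haveI : Mono χ := (ModuleCat.mono_iff_injective χ).2 fun y y' h => by
    obtain ⟨z, rfl⟩ := w.surjective y
    obtain ⟨z', rfl⟩ := w.surjective y'
    rw [CAlgH3.PdPolynomial.chi_injective e (M : Type u) (w.injective ((hx z).symm.trans (h.trans (hx z'))))]
  haveI : Epi c := (ModuleCat.epi_iff_surjective c).2 fun m => by
    obtain ⟨z, hz⟩ := CAlgH3.PdPolynomial.act_surjective (S := A) (B := B) (M : Type u) m
    exact ⟨w z, (hc z).trans hz⟩
  haveI : Mono (ShortComplex.mk χ c h0).f := ‹Mono χ›
  haveI : Epi (ShortComplex.mk χ c h0).g := ‹Epi c›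
  refine ⟨h0, ShortComplex.ShortExact.mk ((ShortComplex.moduleCat_exact_iff _).2 fun y hy => ?_)⟩
  obtain ⟨z, rfl⟩ := w.surjective y
  obtain ⟨t, ht⟩ := CAlgH3.PdPolynomial.ker_act_le e (M : Type u) (LinearMap.mem_ker.2 ((hc z).symm.trans hy))
  exact ⟨w t, (hx t).trans (congrArg w ht)⟩

/-- One variable raises the amplitude by one. -/
theorem amp_step [Algebra A B] (e : Polynomial A ≃ₐ[A] B) (K : Dual.D B) {a b : ℤ}
    (h : DRing.HasTorAmplitudeIn A a b ((DRing.restrictD (algebraMap A B)).obj K)) :
    DRing.HasTorAmplitudeIn B (a - 1) b K := by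
  haveI : Module.Free A B := Module.Free.of_equiv e.toLinearEquiv
  let g := algebraMap A B
  let L := DerivedCategory.Q.objPreimage K
  let eL : DerivedCategory.Q.obj L ≅ K := DerivedCategory.Q.objObjPreimageIso K
  let G := re (A := A) (B := B)
  let adj := ModuleCat.extendRestrictScalarsAdj g
  let S : ShortComplex (DRing.Cx B) := ShortComplex.mk
    ((NatTrans.mapHomologicalComplex (chiNat (A := A) (e Polynomial.X)) (ComplexShape.up ℤ)).app L)
    ((NatTrans.mapHomologicalComplex adj.counit (ComplexShape.up ℤ)).app L ≫
      ((Functor.mapHomologicalComplexIdIso (ModuleCat.{u} B) (ComplexShape.up ℤ)).app L).hom) (by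
      refine HomologicalComplex.hom_ext _ _ fun i => ?_
      obtain ⟨h0, -⟩ := exists_shortExact e (L.X i)
      simpa [G, adj] using h0)
  have hS : S.ShortExact := HomologicalComplex.shortExact_of_degreewise_shortExact S fun i => by
    obtain ⟨h0, hh⟩ := exists_shortExact e (L.X i)
    refine ShortComplex.shortExact_of_iso (ShortComplex.isoMk (Iso.refl _) (Iso.refl _) (Iso.refl _) ?_ ?_) hh
    · simp [S]
    · simp [S]
  have h' : DRing.HasTorAmplitudeIn A a b (DRing.toD ((DRing.restrictCx g).obj L)) :=
    DualLib.TorAmpOps.amp_of_iso ((DRing.restrictD g).mapIso eL.symm ≪≫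
      (ModuleCat.restrictScalars.{u} g).mapDerivedCategoryFactors.app L) h
  have h1 : DRing.HasTorAmplitudeIn B a b (DerivedCategory.Q.obj S.X₁) :=
    amp_exF g (RingHom.flat_algebraMap_iff.2 inferInstance) _ h'
  exact DualLib.TorAmpOps.amp_of_iso eL
    (DualLib.TorAmpOps.amp_cone (DerivedCategory.triangleOfSES_distinguished hS) h1 h1)

/-- Tor amplitude over a polynomial ring from the base. -/
theorem amp_polynomial (R : Type u) [CommRing R] : ∀ (t : ℕ) (K : Dual.D (MvPolynomial (Fin t) R)) (a b : ℤ),
    DRing.HasTorAmplitudeIn R a b ((DRing.restrictD (algebraMap R (MvPolynomial (Fin t) R))).obj K) →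
      DRing.HasTorAmplitudeIn (MvPolynomial (Fin t) R) (a - t) b K := by
  intro t
  induction t with
  | zero =>
    intro K a b h
    let P := MvPolynomial (Fin 0) R
    let g := algebraMap R P
    have hbij : Function.Bijective g := ⟨MvPolynomial.C_injective _ _, fun p =>
      ⟨_, (MvPolynomial.eq_C_of_isEmpty p).symm⟩⟩
    let adj := ModuleCat.extendRestrictScalarsAdj g
    haveI : ∀ M : ModuleCat.{u} P, IsIso (adj.counit.app M) := fun M => by
      rw [ConcreteCategory.isIso_iff_bijective]
      let c : (ModuleCat.extendScalars.{u, u, u} g).obj ((ModuleCat.restrictScalars.{u} g).obj M) → M := (adj.counit.app M).hom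
      have hone : ∀ y, y = one_t g (show (ModuleCat.restrictScalars.{u} g).obj M from c y) := fun y => by
        induction y using TensorProduct.induction_on with
        | zero => exact ((congrArg (one_t g) (map_zero (adj.counit.app M).hom)).trans (TensorProduct.tmul_zero _ _)).symm
        | tmul p m =>
          obtain ⟨r, rfl⟩ := hbij.2 p
          letI := g.toAlgebra
          have hm : c ((g r) ⊗ₜ[R] m) = (show M from r • m) := rfl
          rw [hm]
          refine Eq.trans ?_ (one_t_smul g r m).symm
          show (g r) ⊗ₜ[R,g] m = ((g r) * 1) ⊗ₜ[R,g] m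
          rw [mul_one]
        | add y z hy hz =>
          conv_lhs => rw [hy, hz]
          exact ((congrArg (one_t g) (map_add (adj.counit.app M).hom y z)).trans (TensorProduct.tmul_add _ _ _)).symm
      exact ⟨fun y z h => (hone y).trans ((congrArg (one_t g) h).trans (hone z).symm),
        fun m => ⟨one_t g m, one_smul P m⟩⟩
    let L := DerivedCategory.Q.objPreimage K
    let eL : DerivedCategory.Q.obj L ≅ K := DerivedCategory.Q.objObjPreimageIso K
    let c : (exCx g).obj ((DRing.restrictCx g).obj L) ≅ L :=
      HomologicalComplex.Hom.isoOfComponents (fun i => asIso (adj.counit.app (L.X i)))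
        fun i j _ => (adj.counit.naturality (L.d i j)).symm
    rw [show a - ((0 : ℕ) : ℤ) = a by omega]
    exact DualLib.TorAmpOps.amp_of_iso (DerivedCategory.Q.mapIso c ≪≫ eL)
      (amp_exF g (RingHom.Flat.of_bijective hbij) _ (DualLib.TorAmpOps.amp_of_iso
        ((DRing.restrictD g).mapIso eL.symm ≪≫ (ModuleCat.restrictScalars.{u} g).mapDerivedCategoryFactors.app L) h))
  | succ t ih =>
    intro K a b h
    let S := MvPolynomial (Fin t) R
    let B' := MvPolynomial (Fin (t + 1)) R
    letI : Algebra S B' := (MvPolynomial.rename Fin.succ : S →ₐ[R] B').toRingHom.toAlgebra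
    have hcomm : ∀ s : S, MvPolynomial.finSuccEquiv R t (algebraMap S B' s) = Polynomial.C s := by
      intro s
      show MvPolynomial.finSuccEquiv R t (MvPolynomial.rename Fin.succ s) = _
      induction s using MvPolynomial.induction_on with
      | C a => simp [MvPolynomial.finSuccEquiv_apply]; rfl
      | add p q hp hq => rw [map_add, map_add, hp, hq, map_add]
      | mul_X p i hp => rw [map_mul, map_mul, hp, MvPolynomial.rename_X, MvPolynomial.finSuccEquiv_X_succ, map_mul]
    let e : Polynomial S ≃ₐ[S] B' :=
      { (MvPolynomial.finSuccEquiv R t).toRingEquiv.symm with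
        commutes' := fun s => (MvPolynomial.finSuccEquiv R t).injective
          (((MvPolynomial.finSuccEquiv R t).apply_symm_apply _).trans (hcomm s).symm) }
    obtain ⟨i⟩ := nonempty_restrictD_comp (algebraMap R S) (algebraMap S B') (algebraMap R B')
      ((MvPolynomial.rename Fin.succ : S →ₐ[R] B').comp_algebraMap).symm K
    rw [show a - ((t + 1 : ℕ) : ℤ) = a - t - 1 by omega]
    exact amp_step e K (ih _ a b (DualLib.TorAmpOps.amp_of_iso i.symm h))

/-- Amplitude is cut down by cohomological bounds. -/
theorem amp_trim {a b c : ℤ} {K : Dual.D A} (h : DRing.HasTorAmplitudeIn A a b K) [K.IsLE c] :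
    DRing.HasTorAmplitudeIn A a c K := by
  haveI : ∀ N : ModuleCat.{u} A, DRing.HasLTensor A N := fun N => DCat.hasLTensor N
  refine DCat.flatAmp_of_vanish fun N i hi => ?_
  rcases hi with hi | hi
  · exact DCat.vanish_of_flatAmp h N (Or.inl hi)
  · obtain ⟨P, hPb, -, hP, ⟨e⟩⟩ := DCat.Amplitude.exists_kProjective_rep K c
    have hflat : DRing.TermwiseFlat P := fun n =>
      haveI := (IsProjective.iff_projective (R := A) (P.X n)).2 (hP n)
      inferInstance
    have hz : DRing.VanishesAbove P c := fun n hn => CochainComplex.isZero_of_isStrictlyLE P c n hn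
    rw [DCat.isZero_ltensor_iff N (DCat.isKFlatFor_of_vanishesAbove P c hz hflat) e, HomologicalComplex.exactAt_iff]
    exact ShortComplex.exact_of_isZero_X₂ _ ((MonoidalCategory.tensorRight N).map_isZero (hz i hi))

end Groth.Agent.Dual6Lib.RD
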