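import Groth.Agent.DualLib.DualComplexBC
import Mathlib.RingTheory.TensorProduct.IsBaseChangeHom
import Mathlib.LinearAlgebra.TensorProduct.Pi

/-!
# Hom complexes, change of rings
-/

set_option autoImplicit false
set_option backward.isDefEq.respectTransparency false
set_option backward.defeqAttrib.useBackward true
set_option linter.style.haveILetI false
set_option linter.unusedSectionVars false

universe u

open CategoryTheory CategoryTheory.Limits CochainComplex CochainComplex.HomComplex
open scoped TensorProduct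

namespace Groth.Agent.Dual6Lib.RD

open Groth.Agent Groth.Agent.DualLib Groth.Agent.DualLib.Shriek Groth.Agent.DualLib.Omega

variable {A B : Type u} [CommRing A] [CommRing B] (ρ : A →+* B)

/-- Extension of scalars is semilinear on morphisms. -/
lemma ex_map_smul (a : A) {M N : ModuleCat.{u} A} (f : M ⟶ N) :
    (ModuleCat.extendScalars.{u, u, u} ρ).map (a • f) = ρ a • (ModuleCat.extendScalars.{u, u, u} ρ).map f :=
  ModuleCat.hom_ext (ext_one_t ρ fun m => by
    show one_t ρ ((a • f).hom m) = ρ a • one_t ρ (f.hom m)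
    exact one_t_smul ρ a _)

variable (E J : DRing.Cx A)

/-- Base change of cochains in one degree. -/
noncomputable def bcHomLin (i : ℤ) :
    (ModuleCat.extendScalars.{u, u, u} ρ).obj ((DRing.homCx E J).X i) ⟶ (DRing.homCx (exF ρ E) (exF ρ J)).X i :=
  ((ModuleCat.extendRestrictScalarsAdj ρ).homEquiv _ _).symm
    (ModuleCat.ofHom (Y := (ModuleCat.restrictScalars.{u} ρ).obj ((DRing.homCx (exF ρ E) (exF ρ J)).X i))
      { toFun := fun z : Cochain E J i => Cochain.map z (ModuleCat.extendScalars.{u, u, u} ρ)
        map_add' := fun z w => Cochain.map_add _ _ _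
        map_smul' := fun a z => Cochain.ext _ _ fun p q h => ex_map_smul ρ a (z.v p q h) })

lemma bcHomLin_one_t (i : ℤ) (z : Cochain E J i) :
    (bcHomLin ρ E J i).hom (one_t ρ z) = Cochain.map z (ModuleCat.extendScalars.{u, u, u} ρ) :=
  one_smul B (show (DRing.homCx (exF ρ E) (exF ρ J)).X i from Cochain.map z (ModuleCat.extendScalars.{u, u, u} ρ))

/-- Base change of hom complexes. -/
noncomputable def bcHom : exF ρ (DRing.homCx E J) ⟶ DRing.homCx (exF ρ E) (exF ρ J) where
  f i := bcHomLin ρ E J i
  comm' i j _ := ModuleCat.hom_ext (ext_one_t ρ fun (z : Cochain E J i) => by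
    show δ i j ((bcHomLin ρ E J i).hom (one_t ρ z) : Cochain (exF ρ E) (exF ρ J) i) =
      (bcHomLin ρ E J j).hom (one_t ρ (δ i j z : Cochain E J j))
    rw [bcHomLin_one_t, bcHomLin_one_t, δ_map])

variable {E J}

theorem bijective_bcHomLin {b c : ℤ} (hE : DRing.TermwiseFiniteFree E) (hb : DRing.VanishesAbove E b)
    (hc : ∀ q, q < c → IsZero (J.X q)) (i : ℤ) : Function.Bijective (bcHomLin ρ E J i).hom := by
  classical
  letI := ρ.toAlgebra
  let ex := ModuleCat.extendScalars.{u, u, u} ρ
  let s := Finset.Icc (c - i) b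
  have hz : ∀ p q : ℤ, p + i = q → p ∉ s → IsZero (E.X p) ∨ IsZero (J.X q) := fun p q h hp => by
    simp only [s, Finset.mem_Icc, not_and_or, not_le] at hp
    rcases hp with hp | hp
    · exact Or.inr (hc q (by omega))
    · exact Or.inl (hb p hp)
  let H : ↥s → Type u := fun p => E.X p.1 →ₗ[A] J.X (p.1 + i)
  let comp : Cochain E J i →ₗ[A] (∀ p : ↥s, E.X p.1 →ₗ[A] J.X (p.1 + i)) :=
    { toFun := fun z p => (z.v p.1 (p.1 + i) rfl).hom
      map_add' := fun z w => rfl
      map_smul' := fun a z => rfl }
  have hcomp : Function.Bijective comp := by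
    refine ⟨fun z w h => Cochain.ext _ _ fun p q hpq => ?_, fun g => ?_⟩
    · by_cases hp : p ∈ s
      · subst hpq
        exact ModuleCat.hom_ext (congrFun h ⟨p, hp⟩)
      · rcases hz p q hpq hp with h0 | h0
        · exact h0.eq_of_src _ _
        · exact h0.eq_of_tgt _ _
    · let z : Cochain E J i :=
        Cochain.mk fun p q h => if hp : p ∈ s then ModuleCat.ofHom (g ⟨p, hp⟩) ≫ eqToHom (by subst h; rfl) else 0
      refine ⟨z, funext fun p => ?_⟩
      show (z.v p.1 (p.1 + i) rfl).hom = g p
      simp only [z]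
      rw [Cochain.mk_v, dif_pos p.2, eqToHom_refl, Category.comp_id]
      rfl
  let comp' : Cochain (exF ρ E) (exF ρ J) i →ₗ[B] (∀ p : ↥s, ex.obj (E.X p.1) →ₗ[B] ex.obj (J.X (p.1 + i))) :=
    { toFun := fun z p => (z.v p.1 (p.1 + i) rfl).hom
      map_add' := fun z w => rfl
      map_smul' := fun a z => rfl }
  have hcomp' : Function.Injective comp' := fun z w h => Cochain.ext _ _ fun p q hpq => by
    by_cases hp : p ∈ s
    · subst hpq
      exact ModuleCat.hom_ext (congrFun h ⟨p, hp⟩)
    · rcases hz p q hpq hp with h0 | h0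
      · exact (ex.map_isZero h0).eq_of_src _ _
      · exact (ex.map_isZero h0).eq_of_tgt _ _
  haveI : ∀ p : ↥s, Module.Free A (E.X p.1) := fun p => (hE p.1).2
  haveI : ∀ p : ↥s, Module.Finite A (E.X p.1) := fun p => (hE p.1).1
  let Ψ : (B ⊗[A] Cochain E J i) ≃ₗ[B] (∀ p : ↥s, ex.obj (E.X p.1) →ₗ[B] ex.obj (J.X (p.1 + i))) :=
    LinearEquiv.baseChange A B _ _ (LinearEquiv.ofBijective comp hcomp) ≪≫ₗ
      TensorProduct.piRight A B B _ ≪≫ₗ
      LinearEquiv.piCongrRight fun p =>
        IsBaseChange.linearMapRightBaseChangeEquiv (E.X p.1) (TensorProduct.isBaseChange A (J.X (p.1 + i)) B) ≪≫ₗ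
          (LinearMap.liftBaseChangeEquiv B : (E.X p.1 →ₗ[A] B ⊗[A] J.X (p.1 + i)) ≃ₗ[B] _)
  let Ψ' : ex.obj ((DRing.homCx E J).X i) →ₗ[B] (∀ p : ↥s, ex.obj (E.X p.1) →ₗ[B] ex.obj (J.X (p.1 + i))) :=
    Ψ.toLinearMap
  have key : comp' ∘ₗ (bcHomLin ρ E J i).hom = Ψ' := ext_one_t ρ fun (z : Cochain E J i) => funext fun p => by
    refine ext_one_t ρ fun m => ?_
    show ((((bcHomLin ρ E J i).hom (one_t ρ z) : Cochain (exF ρ E) (exF ρ J) i)).v p.1 (p.1 + i) rfl).hom (one_t ρ m) =
      Ψ ((1 : B) ⊗ₜ[A] z) p ((1 : B) ⊗ₜ[A] m)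
    rw [bcHomLin_one_t]
    show one_t ρ ((z.v p.1 (p.1 + i) rfl).hom m) = _
    simp [Ψ, IsBaseChange.linearMapRightBaseChangeEquiv, IsBaseChange.linearMapRightBaseChangeHom]
    erw [LinearMap.liftBaseChange_one_tmul]
    rfl
  have h1 : Function.Bijective fun x => comp' ((bcHomLin ρ E J i).hom x) := by
    have h2 : (fun x => comp' ((bcHomLin ρ E J i).hom x)) = ⇑Ψ := funext fun x => LinearMap.congr_fun key x
    rw [h2]
    exact Ψ.bijective
  exact ⟨fun x y h => h1.1 (congrArg comp' h), fun y => (h1.2 (comp' y)).imp fun x hx => hcomp' hx⟩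

/-- Hom complexes commute with flat base change in the finite case. -/
theorem nonempty_bcHom {b c : ℤ} (hE : DRing.TermwiseFiniteFree E) (hb : DRing.VanishesAbove E b)
    (hc : ∀ q, q < c → IsZero (J.X q)) :
    Nonempty (exF ρ (DRing.homCx E J) ≅ DRing.homCx (exF ρ E) (exF ρ J)) := by
  haveI : ∀ i, IsIso ((bcHom ρ E J).f i) := fun i =>
    (ConcreteCategory.isIso_iff_bijective _).2 (bijective_bcHomLin ρ hE hb hc i)
  haveI : IsIso (bcHom ρ E J) := HomologicalComplex.Hom.isIso_of_components _
  exact ⟨asIso (bcHom ρ E J)⟩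

section Coextend

variable {φ : A →+* B}

/-- Adjunction on cochains in one degree. -/
noncomputable def adjLinHom (X : DRing.Cx B) (I : DRing.Cx A) (i : ℤ) :
    (ModuleCat.restrictScalars.{u} φ).obj ((DRing.homCx X ((coCx φ).obj I)).X i) ⟶
      (DRing.homCx ((DRing.restrictCx φ).obj X) I).X i :=
  ModuleCat.ofHom (X := (ModuleCat.restrictScalars.{u} φ).obj ((DRing.homCx X ((coCx φ).obj I)).X i))
    (Y := Cochain ((DRing.restrictCx φ).obj X) I i)
    { toFun := fun (z : Cochain X ((coCx φ).obj I) i) => Cochain.mk fun p q h =>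
        (ModuleCat.restrictScalars.{u} φ).map (z.v p q h) ≫ (ModuleCat.restrictCoextendScalarsAdj φ).counit.app (I.X q)
      map_add' := fun z w => Cochain.ext _ _ fun p q h => by
        ext x; rfl
      map_smul' := fun a (z : Cochain X ((coCx φ).obj I) i) => Cochain.ext _ _ fun p q h => by
        show (ModuleCat.restrictScalars.{u} φ).map (φ a • z.v p q h) ≫
            (ModuleCat.restrictCoextendScalarsAdj φ).counit.app (I.X q) =
          a • ((ModuleCat.restrictScalars.{u} φ).map (z.v p q h) ≫
            (ModuleCat.restrictCoextendScalarsAdj φ).counit.app (I.X q))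
        rw [show (ModuleCat.restrictScalars.{u} φ).map (φ a • z.v p q h) = a • (ModuleCat.restrictScalars.{u} φ).map (z.v p q h) from rfl,
          Linear.smul_comp] }

/-- Adjunction on hom complexes. -/
noncomputable def adjHom (X : DRing.Cx B) (I : DRing.Cx A) :
    (DRing.restrictCx φ).obj (DRing.homCx X ((coCx φ).obj I)) ⟶ DRing.homCx ((DRing.restrictCx φ).obj X) I where
  f i := adjLinHom X I i
  comm' i j hij := by
    refine ModuleCat.hom_ext (LinearMap.ext fun (z : Cochain X ((coCx φ).obj I) i) => ?_)
    simp only [ComplexShape.up_Rel] at hij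
    subst hij
    refine Cochain.ext _ _ fun p q h => ?_
    show (δ i (i + 1) ((adjLinHom X I i).hom z : Cochain ((DRing.restrictCx φ).obj X) I i)).v p q h =
      (ModuleCat.restrictScalars.{u} φ).map ((δ i (i + 1) z).v p q h) ≫
        (ModuleCat.restrictCoextendScalarsAdj φ).counit.app (I.X q)
    rw [δ_v i (i + 1) rfl _ p q h (q - 1) (p + 1) rfl rfl, δ_v i (i + 1) rfl _ p q h (q - 1) (p + 1) rfl rfl]
    ext x
    rfl

/-- `Hom_B(X, Hom_A(B, I)) = Hom_A(X, I)` on complexes. -/
theorem nonempty_adjHom (X : DRing.Cx B) (I : DRing.Cx A) :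
    Nonempty ((DRing.restrictCx φ).obj (DRing.homCx X ((coCx φ).obj I)) ≅
      DRing.homCx ((DRing.restrictCx φ).obj X) I) := by
  have hb : ∀ (i : ℤ), Function.Bijective (adjLinHom (φ := φ) X I i).hom := fun i => by
    have he : ∀ {p q : ℤ} (f : X.X p ⟶ ((coCx φ).obj I).X q),
        ((ModuleCat.restrictCoextendScalarsAdj φ).homEquiv _ _).symm f =
          (ModuleCat.restrictScalars.{u} φ).map f ≫ (ModuleCat.restrictCoextendScalarsAdj φ).counit.app (I.X q) :=
      fun f => Adjunction.homEquiv_counit (ModuleCat.restrictCoextendScalarsAdj φ) _ _ f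
    refine ⟨fun z w h => Cochain.ext _ _ fun p q hpq => ?_, fun (g : Cochain _ I i) => ?_⟩
    · refine ((ModuleCat.restrictCoextendScalarsAdj φ).homEquiv _ _).symm.injective ?_
      rw [he, he]
      exact congrArg (fun y : Cochain ((DRing.restrictCx φ).obj X) I i => y.v p q hpq) h
    · refine ⟨(Cochain.mk fun p q h => (ModuleCat.restrictCoextendScalarsAdj φ).homEquiv _ _ (g.v p q h) :
        Cochain X ((coCx φ).obj I) i), Cochain.ext _ _ fun p q h => ?_⟩
      exact (he _).symm.trans (Equiv.symm_apply_apply _ _)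
  haveI : ∀ i, IsIso ((adjHom (φ := φ) X I).f i) := fun i => (ConcreteCategory.isIso_iff_bijective _).2 (hb i)
  haveI : IsIso (adjHom (φ := φ) X I) := HomologicalComplex.Hom.isIso_of_components _
  exact ⟨asIso (adjHom X I)⟩

end Coextend

section Section

variable {C : Type u} [CommRing C] (iL : A →+* C) (μ : C →+* A)

/-- Evaluation of a coextended hom complex. -/
noncomputable def secFun (hμ : μ.comp iL = RingHom.id A) (E : DRing.Cx A) (I : DRing.Cx C) (i : ℤ)
    (f : (ModuleCat.restrictScalars.{u} μ).obj (ModuleCat.of A A) →ₗ[C] Cochain (exF iL E) I i) :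
    Cochain E ((coCx μ).obj I) i :=
  Cochain.mk fun p q h => ModuleCat.ofHom (Y := (ModuleCat.coextendScalars.{u, u} μ).obj (I.X q))
    { toFun := fun e =>
        ({ toFun := fun a => ((f a).v p q h).hom (one_t iL e)
           map_add' := fun a a' => by rw [map_add]; rfl
           map_smul' := fun c a => by rw [map_smul]; rfl } :
          (ModuleCat.restrictScalars.{u} μ).obj (ModuleCat.of A A) →ₗ[C] I.X q)
      map_add' := fun e e' => by
        refine LinearMap.ext fun a => ?_
        show ((f a).v p q h).hom (one_t iL (e + e')) = _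
        rw [one_t_add, map_add]
        rfl
      map_smul' := fun r e => by
        refine LinearMap.ext fun a => ?_
        show ((f a).v p q h).hom (one_t iL (r • e)) =
          ((f (show (ModuleCat.restrictScalars.{u} μ).obj (ModuleCat.of A A) from (show A from a) * r)).v p q h).hom (one_t iL e)
        have hr : iL r • a = (show (ModuleCat.restrictScalars.{u} μ).obj (ModuleCat.of A A) from (show A from a) * r) := by
          show μ (iL r) * (show A from a) = (show A from a) * r
          rw [← RingHom.comp_apply, hμ, RingHom.id_apply, mul_comm]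
        rw [← hr, map_smul, one_t_smul, map_smul]
        rfl }

theorem nonempty_secHom (hμ : μ.comp iL = RingHom.id A) (E : DRing.Cx A) (I : DRing.Cx C) :
    Nonempty ((coCx μ).obj (DRing.homCx (exF iL E) I) ≅ DRing.homCx E ((coCx μ).obj I)) := by
  let Θ : ∀ i, ((coCx μ).obj (DRing.homCx (exF iL E) I)).X i ⟶ (DRing.homCx E ((coCx μ).obj I)).X i := fun i =>
    ModuleCat.ofHom (X := (ModuleCat.coextendScalars.{u, u} μ).obj ((DRing.homCx (exF iL E) I).X i))
      (Y := Cochain E ((coCx μ).obj I) i)
      { toFun := fun f => secFun iL μ hμ E I i f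
        map_add' := fun f g => Cochain.ext _ _ fun p q h => ModuleCat.hom_ext (LinearMap.ext fun e =>
          LinearMap.ext fun a => rfl)
        map_smul' := fun r f => Cochain.ext _ _ fun p q h => ModuleCat.hom_ext (LinearMap.ext fun e =>
          LinearMap.ext fun a => rfl) }
  let θ : (coCx μ).obj (DRing.homCx (exF iL E) I) ⟶ DRing.homCx E ((coCx μ).obj I) :=
    { f := Θ
      comm' := fun i j hij => by
        simp only [ComplexShape.up_Rel] at hij
        subst hij
        refine ModuleCat.hom_ext (LinearMap.ext fun f => Cochain.ext _ _ fun p q h => ?_)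
        refine ModuleCat.hom_ext (LinearMap.ext fun e => LinearMap.ext fun a => ?_)
        show (show (ModuleCat.restrictScalars.{u} μ).obj (ModuleCat.of A A) →ₗ[C] I.X q from
            ((δ i (i + 1) (secFun iL μ hμ E I i f)).v p q h).hom e) a =
          ((δ i (i + 1) ((show (ModuleCat.restrictScalars.{u} μ).obj (ModuleCat.of A A) →ₗ[C] Cochain (exF iL E) I i
            from f) a)).v p q h).hom (one_t iL e)
        rw [δ_v i (i + 1) rfl _ p q h (q - 1) (p + 1) rfl rfl, δ_v i (i + 1) rfl _ p q h (q - 1) (p + 1) rfl rfl]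
        rfl }
  have hb : ∀ i, Function.Bijective (Θ i).hom := fun i => by
    refine ⟨fun f g h => LinearMap.ext fun a => Cochain.ext _ _ fun p q hpq => ?_, fun (g : Cochain _ _ i) => ?_⟩
    · refine ModuleCat.hom_ext (ext_one_t iL fun e => ?_)
      exact congrArg (fun z : Cochain E ((coCx μ).obj I) i =>
        (show (ModuleCat.restrictScalars.{u} μ).obj (ModuleCat.of A A) →ₗ[C] I.X q from (z.v p q hpq).hom e) a) h
    · let cc : ∀ (p q : ℤ), p + i = q → ((ModuleCat.restrictScalars.{u} μ).obj (ModuleCat.of A A) : Type u) →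
          (E.X p ⟶ (ModuleCat.restrictScalars.{u} iL).obj (I.X q)) := fun p q h a =>
        ModuleCat.ofHom (Y := (ModuleCat.restrictScalars.{u} iL).obj (I.X q))
          { toFun := fun e => (show _ →ₗ[C] I.X q from (g.v p q h).hom e) a
            map_add' := fun e e' => by rw [map_add]; rfl
            map_smul' := fun r e => by
              rw [map_smul]
              show (show _ →ₗ[C] I.X q from (g.v p q h).hom e) (show A from (show A from a) * r) = iL r • _
              rw [← map_smul (show (ModuleCat.restrictScalars.{u} μ).obj (ModuleCat.of A A) →ₗ[C] I.X q from (g.v p q h).hom e)]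
              congr 1
              show (show A from a) * r = μ (iL r) * (show A from a)
              rw [← RingHom.comp_apply, hμ, RingHom.id_apply, mul_comm] }
      let up : ∀ (p q : ℤ), p + i = q → ((ModuleCat.restrictScalars.{u} μ).obj (ModuleCat.of A A) : Type u) →
          ((exF iL E).X p ⟶ I.X q) := fun p q h a =>
        ((ModuleCat.extendRestrictScalarsAdj iL).homEquiv _ _).symm (cc p q h a)
      have hup : ∀ p q h a e, (up p q h a).hom (one_t iL e) = (show _ →ₗ[C] I.X q from (g.v p q h).hom e) a :=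
        fun p q h a e => one_smul C _
      refine ⟨({ toFun := fun a => Cochain.mk fun p q h => up p q h a
                 map_add' := fun a a' => Cochain.ext _ _ fun p q h => ModuleCat.hom_ext (ext_one_t iL fun e => by
                   show (up p q h (a + a')).hom (one_t iL e) = (up p q h a).hom (one_t iL e) + (up p q h a').hom (one_t iL e)
                   rw [hup, hup, hup, map_add])
                 map_smul' := fun c a => Cochain.ext _ _ fun p q h => ModuleCat.hom_ext (ext_one_t iL fun e => by
                   show (up p q h (c • a)).hom (one_t iL e) = c • (up p q h a).hom (one_t iL e)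
                   rw [hup, hup, map_smul]) } :
          (ModuleCat.restrictScalars.{u} μ).obj (ModuleCat.of A A) →ₗ[C] Cochain (exF iL E) I i), ?_⟩
      refine Cochain.ext _ _ fun p q h => ModuleCat.hom_ext (LinearMap.ext fun e => LinearMap.ext fun a => ?_)
      exact hup p q h a e
  haveI : ∀ i, IsIso (θ.f i) := fun i => (ConcreteCategory.isIso_iff_bijective _).2 (hb i)
  haveI : IsIso θ := HomologicalComplex.Hom.isIso_of_components _
  exact ⟨asIso θ⟩

end Section

end Groth.Agent.Dual6Lib.RD
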