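import Groth.Agent.Dual6Lib.RD.Model
import Groth.Agent.Dual6Lib.RD.HomCx
import Groth.Agent.DualLib.Biduality
import Groth.Agent.DCat.DTenExact

/-!
# Biduality with respect to the relative dualizing complex
-/

set_option autoImplicit false
set_option backward.isDefEq.respectTransparency false
set_option backward.defeqAttrib.useBackward true
set_option linter.style.haveILetI false
set_option linter.unusedSectionVars false

universe u

open CategoryTheory CategoryTheory.Limits CategoryTheory.Pretriangulated Opposite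
open scoped TensorProduct

attribute [local instance] HasDerivedCategory.standard

namespace Groth.Agent.Dual6Lib.RD

open Groth.Agent Groth.Agent.DualLib Groth.Agent.DualLib.Shriek Groth.Agent.DualLib.Omega Groth.Agent.DCat

variable {R A : Type u} [CommRing R] [CommRing A] [Algebra R A] {n : ℕ} {ψ : MvPolynomial (Fin n) R →ₐ[R] A}
  {Rψ : Dual.D (MvPolynomial (Fin n) R) ⥤ Dual.D A} (adj : DRing.restrictD ψ.toRingHom ⊣ Rψ)

section Perfect

variable [Module.Flat R A]
  (hpcA : ∀ m, DRing.IsPseudoCoherentModule (MvPolynomial (Fin n) R) m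
    ((ModuleCat.restrictScalars.{u} ψ.toRingHom).obj (ModuleCat.of A A)))

include hpcA in
/-- Relatively perfect complexes are perfect over the polynomial ring. -/
theorem isPerfect_restrict {X : Dual.D A} (hpc : DRing.IsPseudoCoherent' A X)
    (ht : DRing.HasFiniteTorDimCx R ((DRing.restrictD (algebraMap R A)).obj X)) :
    DRing.IsPerfect (MvPolynomial (Fin n) R) ((DRing.restrictD ψ.toRingHom).obj X) := by
  obtain ⟨a, b, hab⟩ := ht
  obtain ⟨c⟩ := nonempty_restrictD_comp (algebraMap R (MvPolynomial (Fin n) R)) ψ.toRingHom (algebraMap R A)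
    ψ.comp_algebraMap.symm X
  exact (DRingLib.perfect_iff _).2 ⟨DRingLib.pc'_of_forall fun m =>
      DRingLib.pc_restrict hpcA (DRingLib.pc_of_pc' hpc m),
    _, _, amp_polynomial R n _ a b (TorAmpOps.amp_of_iso c.symm hab)⟩

include hpcA in
/-- Perfect complexes are perfect over the polynomial ring. -/
theorem isPerfect_restrict' {X : Dual.D A} (hX : DRing.IsPerfect A X) :
    DRing.IsPerfect (MvPolynomial (Fin n) R) ((DRing.restrictD ψ.toRingHom).obj X) := by
  refine isPerfect_restrict hpcA (DRingLib.pc'_of_perfect hX) ?_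
  obtain ⟨E, a, b, hE, hp, ⟨e⟩⟩ := hX
  let g := algebraMap R A
  refine ⟨a, b, (DRing.restrictCx g).obj E, fun i hi => (ModuleCat.restrictScalars g).map_isZero (hE i hi), fun i => ?_,
    ⟨((ModuleCat.restrictScalars.{u} g).mapDerivedCategoryFactors.app E).symm ≪≫ (DRing.restrictD g).mapIso e⟩⟩
  haveI := (hp i).2
  letI : Module R (E.X i) := Module.compHom _ g
  haveI : IsScalarTower R A (E.X i) := IsScalarTower.of_algebraMap_smul fun _ _ => rfl
  exact (Module.Flat.trans R A (E.X i) : Module.Flat R (E.X i))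

end Perfect

variable [DTen.HasLTen A] [DTen.HasRHom A]

include adj in
/-- `RHom(-, ω)` over the polynomial ring is the linear dual. -/
theorem exists_restrict_rhom (Z : Dual.D A) (E : DRing.Cx (MvPolynomial (Fin n) R)) {u' v : ℤ}
    (hv : DRing.VanishesOutside E u' v) (hp : DRing.TermwiseFiniteProjective E)
    (e : DerivedCategory.Q.obj E ≅ (DRing.restrictD ψ.toRingHom).obj Z) :
    ∃ E' : DRing.Cx (MvPolynomial (Fin n) R), DRing.VanishesOutside E' (-v) (-u') ∧
      DRing.TermwiseFiniteProjective E' ∧ Nonempty (DerivedCategory.Q.obj E' ≅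
        (DRing.restrictD ψ.toRingHom).obj ((DTen.RHomR A Z).obj (om Rψ))) := by
  let P := MvPolynomial (Fin n) R
  let φ := ψ.toRingHom
  haveI : E.IsKProjective := DCat.isKProjective_of_vanishesAbove E v (fun i hi => hv i (Or.inr hi))
    fun i => (hp i).2
  obtain ⟨Z', hZ', ⟨eZ⟩⟩ := exists_kflat_obj Z
  obtain ⟨I, hI, ⟨eI⟩⟩ := exists_kInj_obj (DerivedCategory.Q.obj (sgl (P := P) P))
  haveI := hI
  obtain ⟨j, hj⟩ := Q_map_surjective (X := sgl (P := P) P) (I := I) eI.inv
  haveI : IsIso (DerivedCategory.Q.map j) := by rw [hj]; infer_instance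
  haveI : QuasiIso j := (DerivedCategory.isIso_Q_map_iff_quasiIso (C := ModuleCat.{u} P) j).1 inferInstance
  obtain ⟨eJ⟩ := nonempty_value' adj j
  haveI := isKInjective_coCx φ I
  haveI := isIso_homθ (I := (coCx φ).obj I) hZ'
  obtain ⟨a⟩ := nonempty_adjHom (φ := φ) Z' I
  obtain ⟨s, hs⟩ := DRingLib.exists_Q_map (P := E) (L := (DRing.restrictCx φ).obj Z')
    (e.hom ≫ (DRing.restrictD φ).map eZ.inv ≫
      ((ModuleCat.restrictScalars.{u} φ).mapDerivedCategoryFactors.app Z').hom)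
  haveI : IsIso (DerivedCategory.Q.map s) := by rw [hs]; infer_instance
  haveI : QuasiIso s := (DerivedCategory.isIso_Q_map_iff_quasiIso (C := ModuleCat.{u} P) s).1 inferInstance
  haveI := quasiIso_homPre (I := I) s
  haveI := quasiIso_homCxMap (P := E) j
  refine ⟨Cdual E, fun i hi => ?_, fun i => ?_, ⟨?_⟩⟩
  · haveI : Subsingleton (E.X (-i) →ₗ[P] P) := by
      haveI := ModuleCat.subsingleton_of_isZero (hv (-i) (by omega))
      infer_instance
    haveI : Subsingleton (CochainComplex.HomComplex.Cochain E (sgl (P := P) P) i) :=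
      (evSgl E P (-i) i (by omega)).injective.subsingleton
    exact ModuleCat.isZero_of_subsingleton (ModuleCat.of P (CochainComplex.HomComplex.Cochain E (sgl (P := P) P) i))
  · haveI := (hp (-i)).1
    haveI := (hp (-i)).2
    exact ⟨Module.Finite.equiv (evSgl E P (-i) i (by omega)).symm, projective_Cdual E hp i⟩
  · exact asIso (DerivedCategory.Q.map (DRing.homCxMap E j)) ≪≫
      (asIso (DerivedCategory.Q.map (DCat.homPre s I))).symm ≪≫ DerivedCategory.Q.mapIso a.symm ≪≫
      ((ModuleCat.restrictScalars.{u} φ).mapDerivedCategoryFactors.app _).symm ≪≫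
      (DRing.restrictD φ).mapIso (asIso (homθ Z' ((coCx φ).obj I)) ≪≫ (DTen.RHomR A _).mapIso eJ.symm ≪≫
        (((DTen.RHom A).mapIso eZ.symm.op).app (om Rψ)))

variable {F : DRing.Cx (MvPolynomial (Fin n) R)}
  {π : F ⟶ sgl (P := MvPolynomial (Fin n) R) ((ModuleCat.restrictScalars ψ.toRingHom).obj (ModuleCat.of A A))}
  (h : Res ψ.toRingHom F n π) [DTen.HasLTen₃ A] [DTen.IsSymMonoidal A]

include adj in
/-- Upper bound for the double dual. -/
theorem isLE_double_dual {X : Dual.D A}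
    (hX : DRing.IsPerfect (MvPolynomial (Fin n) R) ((DRing.restrictD ψ.toRingHom).obj X)) (t : ℤ) [X.IsLE t] :
    ((DTen.RHomR A ((DTen.RHomR A X).obj (om Rψ))).obj (om Rψ)).IsLE t := by
  haveI : ((DRing.restrictD ψ.toRingHom).obj X).IsLE t := (DRingLib.isLE_restrict_iff _ X t).2 inferInstance
  obtain ⟨hpc, a, b, ht⟩ := (DRingLib.perfect_iff _).1 hX
  obtain ⟨E, hv, hp, ⟨e⟩⟩ := DRingLib.exists_finiteProjective (K := (DRing.restrictD ψ.toRingHom).obj X)
    (min_le_right a t) (DRingLib.pc_of_pc' hpc _)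
    (amp_trim (DRingLib.torAmplitude_mono ht (min_le_left a t) le_rfl))
  obtain ⟨E', hv', hp', ⟨e'⟩⟩ := exists_restrict_rhom adj X E hv hp e
  obtain ⟨E'', hv'', -, ⟨e''⟩⟩ := exists_restrict_rhom adj _ E' hv' hp' e'
  rw [neg_neg, neg_neg] at hv''
  haveI := DCat.isLE_Q_of_vanishesAbove (fun i hi => hv'' i (Or.inr hi) : DRing.VanishesAbove E'' t)
  exact (DRingLib.isLE_restrict_iff _ _ t).1 (DerivedCategory.TStructure.t.isLE_of_iso e'' t)

include h adj in
/-- `RHom(ω, ω)` is the ring. -/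
theorem nonempty_rhom_self : Nonempty ((DTen.RHomR A (om Rψ)).obj (om Rψ) ≅ DTen.unit A) := by
  let G := (DTen.RHomR A (om Rψ)).obj (om Rψ)
  have hz : ∀ i : ℤ, i ≠ 0 → Subsingleton (Dual.HD A G i) := fun i hi =>
    haveI := subsingleton_self_shift h adj i hi
    (hdRHom (om Rψ) (om Rψ) i).injective.subsingleton
  haveI : G.IsGE 0 := (DRingLib.isGE_iff_HD G 0).2 fun i hi => hz i (by omega)
  haveI : G.IsLE 0 := (DRingLib.isLE_iff_HD G 0).2 fun i hi => hz i (by omega)
  obtain ⟨e⟩ := DualLib.exists_single_iso G 0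
  let z : (om Rψ ⟶ (om Rψ)⟦(0 : ℤ)⟧) ≃ₗ[A] (om Rψ ⟶ om Rψ) :=
    { toFun := fun φ => φ ≫ (shiftFunctorZero (Dual.D A) ℤ).hom.app (om Rψ)
      invFun := fun φ => φ ≫ (shiftFunctorZero (Dual.D A) ℤ).inv.app (om Rψ)
      left_inv := fun φ => by simp
      right_inv := fun φ => by simp
      map_add' := fun φ ψ => Preadditive.add_comp _ _ _ _ _ _
      map_smul' := fun a φ => Linear.smul_comp _ _ _ _ _ _ }
  let s : A ≃ₗ[A] (om Rψ ⟶ om Rψ) :=
    LinearEquiv.ofBijective (LinearMap.toSpanSingleton A _ (𝟙 (om Rψ))) (bijective_smul_id h adj)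
  exact ⟨e.symm ≪≫ (S0 A).mapIso ((hdRHom (om Rψ) (om Rψ) 0).trans (z.trans s.symm)).toModuleIso⟩

include h adj in
/-- Relatively perfect complexes are reflexive with respect to `ω`. -/
theorem exists_predual [Module.Flat R A] {K : Dual.D A} (hK : Dual2.IsRelPerfect R A K) :
    ∃ D : Dual.D A, DRing.IsPseudoCoherent' A D ∧ Nonempty (K ≅ (DTen.RHomR A D).obj (om Rψ)) := by
  let ω := om Rψ
  have hpcA := pc_algebra h
  have hKP := isPerfect_restrict hpcA hK.1 hK.2
  obtain ⟨E₀, a₀, b₀, hv₀, hp₀, ⟨e₀⟩⟩ := hKP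
  obtain ⟨E₁, hv₁, hp₁, ⟨e₁⟩⟩ := exists_restrict_rhom adj K E₀ hv₀ hp₀ e₀
  refine ⟨(DTen.RHomR A K).obj ω, pc'_of_perfect_restrict h ⟨E₁, _, _, hv₁, hp₁, ⟨e₁⟩⟩, ?_⟩
  obtain ⟨eW⟩ := nonempty_rhom_self adj h
  let W := (DTen.RHomR A ω).obj ω
  haveI hW : W.IsLE 0 := by
    refine (DRingLib.isLE_iff_HD W 0).2 fun i hi => ?_
    haveI := subsingleton_self_shift h adj i (by omega)
    exact (hdRHom ω ω i).injective.subsingleton
  let Fn := (DTen.LTen A).obj W
  let G : Dual.D A ⥤ Dual.D A := ((DTen.RHom A).flip.obj ω).rightOp ⋙ (DTen.RHom A).flip.obj ω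
  have hG : MapsTri G := fun T hT => (mapsTriOp_RHom ω).pair (mapsTriOp_RHom ω T hT)
  let η : ∀ K, Fn.obj K ⟶ G.obj K := fun K => DTen.evalHom K ω ω
  have nat : ∀ {K K'} (m : K ⟶ K'), Fn.map m ≫ η K' = η K ≫ G.map m := fun {K K'} m => evalHom_natural ω ω m
  have hiso : IsIso (η K) := by
    obtain ⟨E, bE, hb, hE, ⟨e⟩⟩ := hK.1
    refine isIso_app_of_iso η nat e.symm ((DerivedCategory.isIso_iff (ModuleCat.{u} A) _).2 fun i => ?_)
    let H := DerivedCategory.homologyFunctor (ModuleCat.{u} A) i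
    obtain ⟨T, hT, hP, h2, h3⟩ := exists_trunc_sub E (i - 1) bE hb hE
    haveI := h3
    haveI : T.invRotate.obj₁.IsLE (i - 1) :=
      DerivedCategory.TStructure.t.isLE_shift T.obj₃ (i - 1 - 1) (-1) (i - 1) (by omega)
    let res := DRing.restrictD ψ.toRingHom
    have hp1 := isPerfect_restrict' hpcA hP
    have hp2 : DRing.IsPerfect (MvPolynomial (Fin n) R) (res.obj T.obj₂) := by
      rw [h2]
      exact isPerfect_restrict hpcA ⟨E, bE, hb, hE, ⟨Iso.refl _⟩⟩
        (TorAmpOps.finTor_iso ((DRing.restrictD (algebraMap R A)).mapIso e.symm) hK.2)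
    have hTres := res.map_distinguished T hT
    obtain ⟨q1, t1⟩ := (DRingLib.perfect_iff _).1 hp1
    obtain ⟨q2, t2⟩ := (DRingLib.perfect_iff _).1 hp2
    have hp3 : DRing.IsPerfect (MvPolynomial (Fin n) R) (res.obj T.obj₃) := (DRingLib.perfect_iff _).2
      ⟨DRingLib.pc'_of_forall fun m => DRingLib.pc_cone hTres (DRingLib.pc_of_pc' q1 (m + 1)) (DRingLib.pc_of_pc' q2 m),
        TorAmpOps.finTor_cone hTres t1 t2⟩
    have hp3' : DRing.IsPerfect (MvPolynomial (Fin n) R) (res.obj T.invRotate.obj₁) := by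
      obtain ⟨q3, t3⟩ := (DRingLib.perfect_iff _).1 hp3
      refine (DRingLib.perfect_iff _).2 ⟨DRingLib.pc'_of_forall fun m => ?_, ?_⟩
      · exact DRingLib.pc_iso ((res.commShiftIso (-1 : ℤ)).app T.obj₃).symm
          (DRingLib.pc_shift (DRingLib.pc_of_pc' q3 (m - 1)) (-1) m (by omega))
      · exact TorAmpOps.finTor_iso ((res.commShiftIso (-1 : ℤ)).app T.obj₃).symm (TorAmpOps.finTor_shift t3 _)
    have van : ∀ (X : Dual.D A), X.IsLE (i - 1) → IsZero (H.obj X) := fun X hX =>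
      DerivedCategory.isZero_of_isLE X (i - 1) i (by omega)
    have hFle : ∀ (C : Dual.D A) (t : ℤ) [C.IsLE t], (Fn.obj C).IsLE t := fun C t _ => by
      have := isLE_LTen W C 0 t
      rwa [zero_add] at this
    haveI h3' : T.obj₃.IsLE (i - 1) := DerivedCategory.TStructure.t.isLE_of_le _ (i - 1 - 1) (i - 1) (by omega)
    haveI : IsIso (H.map (Fn.map T.mor₁)) :=
      mapsTri_vanish (mapsTri_tensorLeft W) hT i (van _ (hFle _ _)) (van _ (hFle _ _))
    haveI : IsIso (H.map (G.map T.mor₁)) :=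
      mapsTri_vanish hG hT i (van _ (isLE_double_dual adj hp3 (i - 1))) (van _ (isLE_double_dual adj hp3' (i - 1)))
    haveI : IsIso (η T.obj₁) := isIso_evalHom ω ω hP
    change IsIso (H.map (η (DerivedCategory.Q.obj E)))
    rw [← h2]
    have sq := congrArg H.map (nat T.mor₁)
    rw [H.map_comp, H.map_comp] at sq
    haveI : IsIso (H.map (η T.obj₁) ≫ H.map (G.map T.mor₁)) := inferInstance
    rw [← sq] at this
    exact IsIso.of_isIso_comp_left (H.map (Fn.map T.mor₁)) _
  haveI : IsIso (DTen.evalHom K ω ω) := hiso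
  exact ⟨((DTen.LTen₂ A).mapIso (Iso.prod eW (Iso.refl K)) ≪≫ DTen.leftUnitor K).symm ≪≫
    asIso (DTen.evalHom K ω ω)⟩

end Groth.Agent.Dual6Lib.RD
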