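import Groth.Agent.Dual6Lib.RD.Main
import Groth.Agent.DualLib.ShriekTensor
import Mathlib.RingTheory.TensorProduct.MvPolynomial
import Mathlib.Algebra.MvPolynomial.Equiv

/-!
# Relative dualizing complexes of composites
-/

set_option autoImplicit false
set_option backward.isDefEq.respectTransparency false
set_option backward.defeqAttrib.useBackward true
set_option linter.style.haveILetI false
set_option linter.unusedSectionVars false

universe u

open CategoryTheory CategoryTheory.Limits DerivedCategory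
open scoped TensorProduct

attribute [local instance] HasDerivedCategory.standard

namespace Groth.Agent.Dual6Lib.RD

open Groth.Agent Groth.Agent.DualLib Groth.Agent.DualLib.Shriek Groth.Agent.DualLib.Omega

section Generic

variable {P P' B : Type u} [CommRing P] [CommRing P'] [CommRing B]

/-- Restriction of a module in degree zero. -/
theorem nonempty_restrictD_inD (g : P →+* B) (M : ModuleCat.{u} B) :
    Nonempty ((DRing.restrictD g).obj (Dual.inD B M) ≅ Dual.inD P ((ModuleCat.restrictScalars.{u} g).obj M)) :=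
  ⟨(DRing.restrictD g).mapIso ((DerivedCategory.singleFunctorIsoCompQ (ModuleCat.{u} B) 0).app M) ≪≫
    (ModuleCat.restrictScalars.{u} g).mapDerivedCategoryFactors.app _ ≪≫
    DerivedCategory.Q.mapIso ((HomologicalComplex.singleMapHomologicalComplex (ModuleCat.restrictScalars.{u} g)
      (ComplexShape.up ℤ) 0).app M) ≪≫
    ((DerivedCategory.singleFunctorIsoCompQ (ModuleCat.{u} P) 0).app _).symm⟩

/-- Pseudo-coherence of algebras is transitive. -/
theorem pc_module_comp (f : P →+* P') (g : P' →+* B)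
    (hf : ∀ m, DRing.IsPseudoCoherentModule P m ((ModuleCat.restrictScalars.{u} f).obj (ModuleCat.of P' P')))
    (hg : ∀ m, DRing.IsPseudoCoherentModule P' m ((ModuleCat.restrictScalars.{u} g).obj (ModuleCat.of B B))) (m : ℤ) :
    DRing.IsPseudoCoherentModule P m ((ModuleCat.restrictScalars.{u} (g.comp f)).obj (ModuleCat.of B B)) := by
  obtain ⟨a⟩ := nonempty_restrictD_inD g (ModuleCat.of B B)
  obtain ⟨b⟩ := nonempty_restrictD_inD (g.comp f) (ModuleCat.of B B)
  obtain ⟨c⟩ := nonempty_restrictD_comp f g (g.comp f) rfl (Dual.inD B B)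
  exact DRingLib.pc_iso ((DRing.restrictD f).mapIso a.symm ≪≫ c ≪≫ b) (DRingLib.pc_restrict hf (hg m))

/-- A bijective map is pseudo-coherent. -/
theorem pc_module_bijective (f : P →+* P') (hf : Function.Bijective f) (m : ℤ) :
    DRing.IsPseudoCoherentModule P m ((ModuleCat.restrictScalars.{u} f).obj (ModuleCat.of P' P')) := by
  let l : ModuleCat.of P P ≅ (ModuleCat.restrictScalars.{u} f).obj (ModuleCat.of P' P') :=
    (LinearEquiv.ofBijective
      ({ toFun := fun x => f x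
         map_add' := fun x y => map_add f x y
         map_smul' := fun p x => map_mul f p x } : P →ₗ[P] (ModuleCat.restrictScalars.{u} f).obj (ModuleCat.of P' P'))
      hf).toModuleIso
  refine DRingLib.pc_iso (((DerivedCategory.singleFunctorIsoCompQ (ModuleCat.{u} P) 0).app _).symm ≪≫
    (DerivedCategory.singleFunctor (ModuleCat.{u} P) 0).mapIso l)
    (DRingLib.pc_of_pc' ⟨_, 0, fun i hi => HomologicalComplex.isZero_single_obj_X _ _ _ _ (by omega), fun i => ?_,
      ⟨Iso.refl _⟩⟩ m)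
  by_cases hi : i = 0
  · subst hi
    exact DRingLib.free_of_iso (HomologicalComplex.singleObjXSelf (ComplexShape.up ℤ) 0 (ModuleCat.of P P)).symm
      ⟨inferInstanceAs (Module.Finite P P), inferInstanceAs (Module.Free P P)⟩
  · exact DRingLib.free_zero (HomologicalComplex.isZero_single_obj_X _ _ _ _ hi)

/-- Right adjoints of restriction along an isomorphism extend scalars. -/
theorem nonempty_adjoint_bijective (σ : P →+* P') (hσ : Function.Bijective σ) {Rσ : Dual.D P ⥤ Dual.D P'}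
    (adj : DRing.restrictD σ ⊣ Rσ) [DRing.HasLBaseChange σ] (M : Dual.D P) :
    Nonempty (Rσ.obj M ≅ (DRing.LBaseChange σ).obj M) := by
  let N := Q.objPreimage M
  let e : Q.obj N ≅ M := Q.objObjPreimageIso M
  obtain ⟨f⟩ := frob_of_bijective σ hσ Rσ adj N
  obtain ⟨l⟩ := nonempty_lbase_flat (RingHom.Flat.of_bijective hσ) N
  exact ⟨Rσ.mapIso e.symm ≪≫ f ≪≫ l.symm ≪≫ (DRing.LBaseChange σ).mapIso e⟩

/-- The projection formula for `φ^!`. -/
theorem nonempty_adjoint_tensor (φ : P →+* B) {F : DRing.Cx P} {m : ℕ}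
    {π : F ⟶ sgl (P := P) ((ModuleCat.restrictScalars φ).obj (ModuleCat.of B B))} (h : Res φ F m π)
    {Rφ : Dual.D P ⥤ Dual.D B} (adj : DRing.restrictD φ ⊣ Rφ) [DRing.HasLBaseChange φ] [DTen.HasLTen B]
    (Y : Dual.D P) :
    Nonempty (Rφ.obj Y ≅ (DTen.LTen₂ B).obj (om Rφ, (DRing.LBaseChange φ).obj Y)) := by
  haveI := DCat.hasLTen P
  haveI := DCat.hasRHom (A := B)
  let W₀ := Q.objPreimage (Rφ.obj (DTen.unit P))
  let e₀ : Q.obj W₀ ≅ Rφ.obj (DTen.unit P) := Q.objObjPreimageIso _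
  haveI := DCat.hasLTensorCx ((DTen.resCx φ).obj W₀)
  let ε := (DRing.restrictD φ).map e₀.hom ≫ adj.counit.app (DTen.unit P)
  have hε : SurjT.Univ φ (Q.obj W₀) ε := fun Z => by
    have h1 : (fun z : Z ⟶ Q.obj W₀ => (DRing.restrictD φ).map z ≫ ε) =
        (adj.homEquiv Z (DTen.unit P)).symm ∘ e₀.homToEquiv := funext fun z => by
      simp [ε, Iso.homToEquiv, Adjunction.homEquiv_counit, Functor.map_comp]
    rw [h1]
    exact (Equiv.bijective _).comp (Equiv.bijective _)
  haveI := SurjT.isIso_Θ φ W₀ ε adj h.surj hε (ShriekT.cpt_res_ringCx φ h) Y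
  exact ⟨(asIso ((SurjT.Θ φ W₀ ε adj).app Y)).symm ≪≫ (DTen.LTen₂ B).mapIso (Iso.prod
    (e₀ ≪≫ Rφ.mapIso (ShriekT.unitIso P ≪≫ (DerivedCategory.singleFunctorIsoCompQ (ModuleCat.{u} P) 0).app _))
    (Iso.refl _))⟩

end Generic

/-- A resolution exists for a presentation of a flat pseudo-coherent algebra. -/
theorem exists_res_of_pc {R B : Type u} [CommRing R] [CommRing B] [Algebra R B] [Module.Flat R B] {N : ℕ}
    (φ : MvPolynomial (Fin N) R →ₐ[R] B) (hφ : Function.Surjective φ)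
    (hpc : ∀ m, DRing.IsPseudoCoherentModule (MvPolynomial (Fin N) R) m
      ((ModuleCat.restrictScalars.{u} φ.toRingHom).obj (ModuleCat.of B B))) :
    ∃ (F : DRing.Cx (MvPolynomial (Fin N) R))
      (π : F ⟶ sgl (P := MvPolynomial (Fin N) R) ((ModuleCat.restrictScalars φ.toRingHom).obj (ModuleCat.of B B))),
      Res φ.toRingHom F N π := by
  let P := MvPolynomial (Fin N) R
  let g := algebraMap R B
  obtain ⟨a⟩ := nonempty_restrictD_inD φ.toRingHom (ModuleCat.of B B)
  obtain ⟨b⟩ := nonempty_restrictD_inD g (ModuleCat.of B B)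
  obtain ⟨c⟩ := nonempty_restrictD_comp (algebraMap R P) φ.toRingHom g φ.comp_algebraMap.symm (Dual.inD B B)
  haveI : Module.Flat R ((ModuleCat.restrictScalars.{u} g).obj (ModuleCat.of B B)) :=
    Module.Flat.of_linearEquiv (M := B)
      ({ toFun := fun x => x
         invFun := fun x => x
         map_add' := fun _ _ => rfl
         map_smul' := fun r (x : B) => (Algebra.smul_def r x).symm } :
        ((ModuleCat.restrictScalars.{u} g).obj (ModuleCat.of B B)) ≃ₗ[R] B)
  have h0 : DRing.HasTorAmplitudeIn R 0 0 ((DRing.restrictD g).obj (Dual.inD B B)) := by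
    refine ⟨(HomologicalComplex.single (ModuleCat.{u} R) (ComplexShape.up ℤ) 0).obj
      ((ModuleCat.restrictScalars.{u} g).obj (ModuleCat.of B B)),
      fun i hi => HomologicalComplex.isZero_single_obj_X _ _ _ _ (by omega), fun i => ?_,
      ⟨((DerivedCategory.singleFunctorIsoCompQ (ModuleCat.{u} R) 0).app _).symm ≪≫ b.symm⟩⟩
    by_cases hi : i = 0
    · subst hi
      exact Module.Flat.of_linearEquiv
        (HomologicalComplex.singleObjXSelf (ComplexShape.up ℤ) 0 ((ModuleCat.restrictScalars.{u} g).obj (ModuleCat.of B B))).toLinearEquiv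
    · haveI := ModuleCat.subsingleton_of_isZero (HomologicalComplex.isZero_single_obj_X (ComplexShape.up ℤ) 0
        ((ModuleCat.restrictScalars.{u} g).obj (ModuleCat.of B B)) i hi)
      infer_instance
  have h1 := amp_polynomial R N ((DRing.restrictD φ.toRingHom).obj (Dual.inD B B)) 0 0 (TorAmpOps.amp_of_iso c.symm h0)
  obtain ⟨E, hv, hp, ⟨e⟩⟩ := DRingLib.exists_finiteProjective (by omega : (0 : ℤ) - N ≤ 0)
    (DRingLib.pc_iso a.symm (hpc _)) h1
  haveI : E.IsKProjective := DCat.isKProjective_of_vanishesAbove E 0 (fun i hi => hv i (Or.inr hi)) fun i => (hp i).2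
  obtain ⟨π, hπ⟩ := DRingLib.exists_Q_map (P := E) (L := sgl (P := P) ((ModuleCat.restrictScalars φ.toRingHom).obj (ModuleCat.of B B)))
    (e.hom ≫ a.hom ≫ ((DerivedCategory.singleFunctorIsoCompQ (ModuleCat.{u} P) 0).app _).hom)
  haveI : IsIso (Q.map π) := by rw [hπ]; infer_instance
  exact ⟨E, π, ⟨hφ, (DerivedCategory.isIso_Q_map_iff_quasiIso (C := ModuleCat.{u} P) π).1 inferInstance, ‹_›,
    fun i hi => hv i (by omega), hp⟩⟩

variable {R A B : Type u} [CommRing R] [CommRing A] [CommRing B] [Algebra R A] [Algebra A B] [Algebra R B]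
  [IsScalarTower R A B] [Module.Flat R A] [Module.Flat A B]

/-- `ω` of a composite. -/
theorem exists_comp {n : ℕ} {ψ : MvPolynomial (Fin n) R →ₐ[R] A} {F : DRing.Cx (MvPolynomial (Fin n) R)}
    {π : F ⟶ sgl (P := MvPolynomial (Fin n) R) ((ModuleCat.restrictScalars ψ.toRingHom).obj (ModuleCat.of A A))}
    (h : Res ψ.toRingHom F n π) {Rψ : Dual.D (MvPolynomial (Fin n) R) ⥤ Dual.D A}
    (adj : DRing.restrictD ψ.toRingHom ⊣ Rψ)
    {m : ℕ} {χ : MvPolynomial (Fin m) A →ₐ[A] B} {G : DRing.Cx (MvPolynomial (Fin m) A)}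
    {ρ : G ⟶ sgl (P := MvPolynomial (Fin m) A) ((ModuleCat.restrictScalars χ.toRingHom).obj (ModuleCat.of B B))}
    (hχ : Res χ.toRingHom G m ρ) {Rχ : Dual.D (MvPolynomial (Fin m) A) ⥤ Dual.D B}
    (adjχ : DRing.restrictD χ.toRingHom ⊣ Rχ) [DRing.HasLBaseChange (algebraMap A B)] [DTen.HasLTen B] :
    ∃ (Φ : MvPolynomial (Fin (n + m)) R →ₐ[R] B) (H : DRing.Cx (MvPolynomial (Fin (n + m)) R))
      (σ : H ⟶ sgl (P := MvPolynomial (Fin (n + m)) R) ((ModuleCat.restrictScalars Φ.toRingHom).obj (ModuleCat.of B B)))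
      (RΦ : Dual.D (MvPolynomial (Fin (n + m)) R) ⥤ Dual.D B),
      Res Φ.toRingHom H (n + m) σ ∧ Nonempty (DRing.restrictD Φ.toRingHom ⊣ RΦ) ∧
        Nonempty (om RΦ ≅ (DTen.LTen₂ B).obj (om Rχ, (DRing.LBaseChange (algebraMap A B)).obj (om Rψ))) := by
  let R' := MvPolynomial (Fin m) R
  let S := MvPolynomial (Fin m) A
  let P := MvPolynomial (Fin (n + m)) R
  let P' := MvPolynomial (Fin n) R'
  let iR := (Algebra.TensorProduct.includeRight : A →ₐ[R] R' ⊗[R] A).toRingHom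
  let θ : R' ⊗[R] A ≃+* S :=
    (Algebra.TensorProduct.comm R R' A).toRingEquiv.trans (MvPolynomial.algebraTensorAlgEquiv (σ := Fin m) R A).toRingEquiv
  let e : P ≃ₐ[R] P' := (MvPolynomial.renameEquiv R finSumFinEquiv.symm).trans (MvPolynomial.sumAlgEquiv R (Fin n) (Fin m))
  obtain ⟨π', h'⟩ := exists_res_baseChange (R' := R') ψ h
  let b := bcAlg (R' := R') ψ
  let Φ₁ : P →+* R' ⊗[R] A := b.toRingHom.comp e.toAlgHom.toRingHom
  let Φ₂ : P →+* S := θ.toRingHom.comp Φ₁
  let Φ : P →ₐ[R] B :=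
    { χ.toRingHom.comp Φ₂ with
      commutes' := fun r => by
        show χ (θ (b (e (algebraMap R P r)))) = algebraMap R B r
        rw [e.commutes, IsScalarTower.algebraMap_apply R R' P' r, b.commutes, Algebra.TensorProduct.algebraMap_apply]
        show χ ((MvPolynomial.algebraTensorAlgEquiv (σ := Fin m) R A)
          ((Algebra.TensorProduct.comm R R' A) ((algebraMap R' R' (algebraMap R R' r)) ⊗ₜ[R] (1 : A)))) = _
        rw [Algebra.TensorProduct.comm_tmul, MvPolynomial.algebraTensorAlgEquiv_tmul]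
        simp [R', MvPolynomial.algebraMap_eq]
        rw [← IsScalarTower.algebraMap_apply] }
  have hpc : ∀ k, DRing.IsPseudoCoherentModule P k
      ((ModuleCat.restrictScalars.{u} Φ.toRingHom).obj (ModuleCat.of B B)) :=
    pc_module_comp Φ₂ χ.toRingHom (pc_module_comp Φ₁ θ.toRingHom
      (pc_module_comp e.toAlgHom.toRingHom b.toRingHom (pc_module_bijective _ e.bijective) (pc_algebra h'))
      (pc_module_bijective _ θ.bijective)) (pc_algebra hχ)
  have hsurj : Function.Surjective Φ :=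
    hχ.surj.comp (θ.surjective.comp ((h'.surj).comp e.surjective))
  haveI : Module.Flat R B := Module.Flat.trans R A B
  obtain ⟨H, σ, hH⟩ := exists_res_of_pc Φ hsurj hpc
  obtain ⟨RΦ, ⟨adjΦ⟩⟩ := exists_rightAdjoint Φ.toRingHom
  refine ⟨Φ, H, σ, RΦ, hH, ⟨adjΦ⟩, ?_⟩
  obtain ⟨Re, ⟨adje⟩⟩ := exists_rightAdjoint e.toAlgHom.toRingHom
  obtain ⟨Rb, ⟨adjb⟩⟩ := exists_rightAdjoint b.toRingHom
  obtain ⟨Rθ, ⟨adjθ⟩⟩ := exists_rightAdjoint θ.toRingHom
  obtain ⟨R₁, ⟨adj₁⟩⟩ := exists_rightAdjoint Φ₁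
  obtain ⟨R₂, ⟨adj₂⟩⟩ := exists_rightAdjoint Φ₂
  let U := Q.obj (sgl (P := P) P)
  obtain ⟨c₁⟩ := nonempty_comp_obj (h := Φ₁) rfl adje adjb adj₁ U
  obtain ⟨c₂⟩ := nonempty_comp_obj (h := Φ₂) rfl adj₁ adjθ adj₂ U
  obtain ⟨c₃⟩ := nonempty_comp_obj (h := Φ.toRingHom) (f := Φ₂) (g := χ.toRingHom) rfl adj₂ adjχ adjΦ U
  haveI := DCat.hasLBaseChange e.toAlgHom.toRingHom
  haveI := DCat.hasLBaseChange θ.toRingHom
  haveI := DCat.hasLBaseChange iR
  haveI := DCat.hasLBaseChange χ.toRingHom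
  haveI := DCat.hasLBaseChange (algebraMap A S)
  obtain ⟨a₁⟩ := nonempty_adjoint_bijective e.toAlgHom.toRingHom e.bijective adje U
  obtain ⟨u₁⟩ := LBC.nonempty_self e.toAlgHom.toRingHom
  let q : ∀ (T : Type u) [CommRing T], Q.obj (sgl (P := T) T) ≅ Dual.inD T T := fun T _ =>
    ((DerivedCategory.singleFunctorIsoCompQ (ModuleCat.{u} T) 0).app _).symm
  obtain ⟨a₂⟩ := nonempty_adjoint_bijective θ.toRingHom θ.bijective adjθ (om Rb)
  obtain ⟨bb⟩ := nonempty_LBaseChange_om_shift (R' := R') ψ h adj adjb 0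
  let bb' : (DRing.LBaseChange iR).obj (om Rψ) ≅ om Rb :=
    (DRing.LBaseChange iR).mapIso ((shiftFunctorZero (Dual.D A) ℤ).app _).symm ≪≫ bb ≪≫ (shiftFunctorZero _ ℤ).app _
  have hθ : algebraMap A S = θ.toRingHom.comp iR := RingHom.ext fun a => by
    show algebraMap A S a = (MvPolynomial.algebraTensorAlgEquiv (σ := Fin m) R A)
      ((Algebra.TensorProduct.comm R R' A) ((1 : R') ⊗ₜ[R] a))
    rw [Algebra.TensorProduct.comm_tmul, MvPolynomial.algebraTensorAlgEquiv_tmul, map_one, Algebra.algebraMap_eq_smul_one]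
  let Y := (DRing.LBaseChange (algebraMap A S)).obj (om Rψ)
  let eY : R₂.obj U ≅ Y := c₂ ≪≫ Rθ.mapIso (c₁ ≪≫ Rb.mapIso (a₁ ≪≫
      (DRing.LBaseChange _).mapIso (q P) ≪≫ u₁ ≪≫ (q P').symm)) ≪≫ a₂ ≪≫
    (DRing.LBaseChange _).mapIso bb'.symm ≪≫ (LBC.compIso iR θ.toRingHom (algebraMap A S) hθ).app (om Rψ)
  obtain ⟨p⟩ := nonempty_adjoint_tensor χ.toRingHom hχ adjχ Y
  exact ⟨c₃ ≪≫ Rχ.mapIso eY ≪≫ p ≪≫ (DTen.LTen₂ B).mapIso (Iso.prod (Iso.refl _)
    ((LBC.compIso (algebraMap A S) χ.toRingHom (algebraMap A B) χ.comp_algebraMap.symm).app (om Rψ)))⟩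

end Groth.Agent.Dual6Lib.RD
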