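import Groth.Agent.DualLib.SerreTop
import Groth.Agent.DualLib.Basic
import Groth.Agent.DualLib.Self
import Groth.Agent.DRingLib.PCMore
import Groth.Agent.DRingLib.PCRes

/-!
# Pseudo-coherent objects without maps to shifts of the ring
-/

set_option autoImplicit false
set_option backward.isDefEq.respectTransparency false
set_option backward.defeqAttrib.useBackward true
set_option linter.style.haveILetI false
set_option linter.unusedSectionVars false

universe u

open CategoryTheory CategoryTheory.Limits CategoryTheory.Pretriangulated DerivedCategory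

attribute [local instance] HasDerivedCategory.standard

namespace Groth.Agent.Dual6Lib.RD

open Groth.Agent Groth.Agent.DualLib Groth.Agent.DRingLib

variable {A : Type u} [CommRing A]

/-- A nonzero finitely presented module has a nonzero finitely presented cyclic quotient. -/
theorem exists_cyclic_quotient (M : Type u) [AddCommGroup M] [Module A M] [Module.FinitePresentation A M]
    [Nontrivial M] : ∃ I : Ideal A, I.FG ∧ I ≠ ⊤ ∧ ∃ q : M →ₗ[A] A ⧸ I, Function.Surjective q := by
  classical
  have hex : ∃ r : ℕ, ∃ v : Fin r → M, Submodule.span A (Set.range v) = ⊤ := by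
    obtain ⟨n, v, hv⟩ := Submodule.fg_iff_exists_fin_generating_family.1 (Module.Finite.fg_top (R := A) (M := M))
    exact ⟨n, v, hv⟩
  obtain ⟨v, hv⟩ := Nat.find_spec hex
  rcases Nat.eq_zero_or_pos (Nat.find hex) with h0 | hpos
  · haveI : IsEmpty (Fin (Nat.find hex)) := by rw [h0]; infer_instance
    rw [Set.range_eq_empty v, Submodule.span_empty] at hv
    exact absurd hv bot_ne_top
  · obtain ⟨k, hk⟩ : ∃ k, Nat.find hex = k + 1 := ⟨_, (Nat.succ_pred_eq_of_pos hpos).symm⟩
    let w : Fin (k + 1) → M := fun i => v (Fin.cast hk.symm i)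
    have hw : Submodule.span A (Set.range w) = ⊤ := by
      rw [← hv]
      congr 1
      exact (Function.Surjective.range_comp (f := Fin.cast hk.symm) (finCongr hk.symm).surjective v)
    let N := Submodule.span A (Set.range fun i : Fin k => w i.succ)
    have hN : N.FG := Submodule.fg_span (Set.finite_range _)
    haveI : Module.FinitePresentation A (M ⧸ N) :=
      Module.finitePresentation_of_surjective N.mkQ N.mkQ_surjective (by rwa [Submodule.ker_mkQ])
    let f := LinearMap.toSpanSingleton A (M ⧸ N) (N.mkQ (w 0))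
    have hf : Function.Surjective f := by
      rw [← LinearMap.range_eq_top, eq_top_iff]
      rintro x -
      obtain ⟨m, rfl⟩ := N.mkQ_surjective x
      have : m ∈ Submodule.span A (Set.range w) := hw ▸ Submodule.mem_top
      induction this using Submodule.span_induction with
      | mem y hy =>
        obtain ⟨i, rfl⟩ := hy
        induction i using Fin.cases with
        | zero => exact ⟨1, one_smul _ _⟩
        | succ i =>
          rw [show N.mkQ (w i.succ) = 0 from (Submodule.Quotient.mk_eq_zero N).2 (Submodule.subset_span ⟨i, rfl⟩)]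
          exact Submodule.zero_mem _
      | zero => rw [map_zero]; exact Submodule.zero_mem _
      | add y z _ _ hy hz => rw [map_add]; exact Submodule.add_mem _ hy hz
      | smul a y _ hy => rw [map_smul]; exact Submodule.smul_mem _ a hy
    refine ⟨LinearMap.ker f, Module.FinitePresentation.fg_ker f hf, fun htop => ?_,
      (f.quotKerEquivOfSurjective hf).symm.toLinearMap ∘ₗ N.mkQ,
      (f.quotKerEquivOfSurjective hf).symm.surjective.comp N.mkQ_surjective⟩
    have h1 : N.mkQ (w 0) = 0 := by
      have : (1 : A) ∈ LinearMap.ker f := htop ▸ Submodule.mem_top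
      simpa [f] using this
    refine Nat.find_min hex (show k < Nat.find hex by omega) ⟨fun i => w i.succ, eq_top_iff.2 ?_⟩
    rw [← hw, Submodule.span_le]
    rintro _ ⟨i, rfl⟩
    induction i using Fin.cases with
    | zero => exact (Submodule.Quotient.mk_eq_zero N).1 h1
    | succ i => exact Submodule.subset_span ⟨i, rfl⟩

/-- Top cohomology of a pseudo-coherent object is finitely presented. -/
theorem finitePresentation_top {T : Dual.D A} (b : ℤ) [T.IsLE b] (h : DRing.IsPseudoCoherent A (b - 1) T) :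
    Module.FinitePresentation A ((HF A b).obj T) := by
  obtain ⟨r, S, hS, h1, h2, h3⟩ := exists_cover_cone T b (finite_top (pc_mono (by omega) h))
  haveI := h3
  have hC : DRing.IsPseudoCoherent A (b - 1) S.obj₃ := by
    refine pc_cone hS (h1 ▸ pc_freeAt b r (b - 1 + 1)) ?_
    rw [h2]
    exact h
  haveI := finite_top hC
  have hF := finite_free_homology (R := A) b r
  rw [← h1] at hF
  haveI : Module.Finite A ((HF A b).obj S.obj₁) := hF.1
  haveI : Module.Free A ((HF A b).obj S.obj₁) := hF.2
  have hsurj : Function.Surjective ((HF A b).map S.mor₁).hom :=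
    (ModuleCat.epi_iff_surjective _).1 ((DerivedCategory.HomologySequence.epi_homologyMap_mor₁_iff S hS b).2
      ((DerivedCategory.isZero_of_isLE S.obj₃ (b - 1) b (by omega)).eq_of_tgt _ _))
  have hr := LinearMap.exact_iff.1 ((ShortComplex.ShortExact.moduleCat_exact_iff_function_exact _).1
    (DerivedCategory.HomologySequence.exact₁ S hS (b - 1) b (by omega)))
  have := Module.finitePresentation_of_free_of_surjective _ hsurj (by
    rw [hr, LinearMap.range_eq_map]
    exact Module.Finite.fg_top.map _)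
  rw [h2] at this
  exact this

/-- An iterated cone of multiplications. -/
theorem exists_cones (T : Dual.D A) (hA : ∀ i : ℤ, Subsingleton (T ⟶ (Dual.inD A A)⟦i⟧)) (I : Ideal A) :
    ∀ l : List A, (∀ g ∈ l, g ∈ I) → ∃ X : Dual.D A, X.IsGE (-(l.length : ℤ)) ∧ X.IsLE 0 ∧
      (∀ g ∈ l, ∃ m : ℕ, g ^ m • 𝟙 X = 0) ∧
      (∃ π : Dual.HD A X 0 →ₗ[A] A ⧸ I, Function.Surjective π) ∧
      ∀ i : ℤ, Subsingleton (T ⟶ X⟦i⟧) := by
  intro l
  induction l with
  | nil =>
    intro _
    let eH : Dual.HD A (Dual.inD A A) 0 ≃ₗ[A] A :=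
      ((singleFunctorCompHomologyFunctorIso (ModuleCat.{u} A) 0).app (ModuleCat.of A A)).toLinearEquiv
    refine ⟨Dual.inD A A, ?_, inferInstance, fun g hg => absurd hg List.not_mem_nil,
      ⟨Submodule.mkQ I ∘ₗ eH.toLinearMap, (Submodule.mkQ_surjective I).comp eH.surjective⟩, hA⟩
    show (Dual.inD A A).IsGE (-((0 : ℕ) : ℤ))
    simp only [Nat.cast_zero, neg_zero]
    infer_instance
  | cons g l ih =>
    intro hl
    obtain ⟨X, hge, hle, hkill, ⟨π, hπ⟩, hvan⟩ := ih fun x hx => hl x (List.mem_cons_of_mem g hx)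
    obtain ⟨Z, v, w, hT⟩ := distinguished_cocone_triangle (g • 𝟙 X)
    let S := Triangle.mk (g • 𝟙 X) v w
    have hker : ∀ a : A, a • w = 0 → a • v = 0 → (a * a) • 𝟙 Z = 0 := fun a hw hv => by
      obtain ⟨h, hh⟩ := Triangle.coyoneda_exact₃ S hT (a • 𝟙 Z) (by
        show (a • 𝟙 Z) ≫ w = 0
        rw [Linear.smul_comp, Category.id_comp, hw])
      change a • 𝟙 Z = h ≫ v at hh
      rw [mul_smul, hh, ← Linear.comp_smul, hv, comp_zero]
    have hgw : g • w = 0 := by
      have h0 : w ≫ (g • 𝟙 X)⟦(1 : ℤ)⟧' = 0 := comp_distTriang_mor_zero₃₁ S hT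
      rw [Functor.map_smul, CategoryTheory.Functor.map_id, Linear.comp_smul, Category.comp_id] at h0
      exact h0
    have hgv : g • v = 0 := by
      have h0 : (g • 𝟙 X) ≫ v = 0 := comp_distTriang_mor_zero₁₂ S hT
      rwa [Linear.smul_comp, Category.id_comp] at h0
    have hlow : ∀ q, (q < -((g :: l).length : ℤ) ∨ 0 < q) → Subsingleton (Dual.HD A Z q) := fun q hq => by
      simp only [List.length_cons, Nat.cast_add, Nat.cast_one] at hq
      have h1 : Subsingleton (Dual.HD A X q) ∧ Subsingleton (Dual.HD A X (q + 1)) := by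
        rcases hq with h | h
        · exact ⟨(isGE_iff_HD X _).1 hge q (by omega), (isGE_iff_HD X _).1 hge (q + 1) (by omega)⟩
        · exact ⟨(isLE_iff_HD X _).1 hle q h, (isLE_iff_HD X _).1 hle (q + 1) (by omega)⟩
      haveI := h1.1
      haveI := h1.2
      have he := (ShortComplex.ShortExact.moduleCat_exact_iff_function_exact _).1
        (HomologySequence.exact₃ S hT q (q + 1) rfl)
      refine subsingleton_of_forall_eq 0 fun z => ?_
      obtain ⟨y, rfl⟩ := (he z).1 (Subsingleton.elim (α := Dual.HD A X (q + 1)) _ _)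
      exact (congrArg _ (Subsingleton.elim (α := Dual.HD A X q) y 0)).trans (map_zero _)
    refine ⟨Z, (isGE_iff_HD Z _).2 fun q hq => hlow q (Or.inl hq),
      (isLE_iff_HD Z _).2 fun q hq => hlow q (Or.inr hq), fun x hx => ?_, ?_, fun i => ?_⟩
    · rcases List.mem_cons.1 hx with rfl | hx
      · exact ⟨2, by rw [pow_two]; exact hker x hgw hgv⟩
      · obtain ⟨m, hm⟩ := hkill x hx
        refine ⟨m + m, ?_⟩
        rw [pow_add]
        refine hker (x ^ m) ?_ ?_
        · have h1 : x ^ m • 𝟙 (X⟦(1 : ℤ)⟧) = 0 := by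
            rw [← CategoryTheory.Functor.map_id (shiftFunctor (Dual.D A) (1 : ℤ)), ← Functor.map_smul, hm,
              Functor.map_zero]
          rw [← Category.comp_id w, ← Linear.comp_smul, h1, comp_zero]
        · rw [← Category.id_comp v, ← Linear.smul_comp, hm, zero_comp]
    · let F := HF A 0
      have hv' : Function.Surjective (F.map v).hom :=
        (ModuleCat.epi_iff_surjective _).1 ((HomologySequence.epi_homologyMap_mor₂_iff S hT 0 1 rfl).2
          ((DerivedCategory.isZero_of_isLE X 0 1 (by omega)).eq_of_tgt _ _))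
      have he := (ShortComplex.ShortExact.moduleCat_exact_iff_function_exact _).1 (HomologySequence.exact₂ S hT 0)
      have hle' : LinearMap.ker (F.map v).hom ≤ LinearMap.ker π := fun y hy => by
        obtain ⟨y', rfl⟩ := (he y).1 hy
        have e : F.map (g • 𝟙 X) = g • 𝟙 _ := DCat.DC.homologyFunctor_map_smul_id g X 0
        show π ((F.map (g • 𝟙 X)).hom y') = 0
        rw [e]
        show π (g • y') = 0
        rw [map_smul]
        obtain ⟨a, ha⟩ := Submodule.mkQ_surjective I (π y')
        rw [← ha, ← map_smul]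
        exact (Submodule.Quotient.mk_eq_zero I).2 (I.mul_mem_right a (hl g List.mem_cons_self))
      let e := (F.map v).hom.quotKerEquivOfSurjective hv'
      exact ⟨(LinearMap.ker (F.map v).hom).liftQ π hle' ∘ₗ e.symm.toLinearMap, fun y => by
        obtain ⟨x, rfl⟩ := hπ y
        refine ⟨e (Submodule.Quotient.mk x), ?_⟩
        show (LinearMap.ker (F.map v).hom).liftQ π hle' (e.symm (e _)) = _
        rw [e.symm_apply_apply]
        rfl⟩
    · haveI := hvan i
      haveI : Subsingleton (T ⟶ (X⟦(1 : ℤ)⟧)⟦i⟧) :=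
        haveI := hvan (1 + i)
        (Iso.homCongr (Iso.refl T) ((shiftFunctorAdd (Dual.D A) (1 : ℤ) i).app X)).symm.injective.subsingleton
      refine subsingleton_of_forall_eq 0 fun x => ?_
      have h1 : Subsingleton (T ⟶ (X⟦i⟧)⟦(1 : ℤ)⟧) := @Function.Injective.subsingleton _ _ _
        (Iso.homCongr (Iso.refl T) ((shiftFunctorComm (Dual.D A) i (1 : ℤ)).app X)).injective (by assumption)
      obtain ⟨y, rfl⟩ := Triangle.coyoneda_exact₃ _ (S.shift_distinguished hT i) x (h1.elim _ _)
      rw [Subsingleton.elim (α := T ⟶ X⟦i⟧) y 0, zero_comp]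

/-- An element killed by finitely many locally nilpotent operators. -/
lemma exists_killed {H : Type u} [AddCommGroup H] [Module A H] :
    ∀ l : List A, (∀ g ∈ l, ∃ m : ℕ, ∀ y : H, g ^ m • y = 0) → ∀ y : H, y ≠ 0 →
      ∃ c : A, c • y ≠ 0 ∧ ∀ g ∈ l, g • c • y = 0 := by
  classical
  intro l
  induction l with
  | nil => exact fun _ y hy => ⟨1, by rwa [one_smul], fun g hg => absurd hg List.not_mem_nil⟩
  | cons g l ih =>
    intro hl y hy
    obtain ⟨c, hc, hl'⟩ := ih (fun x hx => hl x (List.mem_cons_of_mem g hx)) y hy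
    obtain ⟨m, hm⟩ := hl g List.mem_cons_self
    have hex : ∃ k, g ^ (k + 1) • c • y = 0 := ⟨m, by rw [pow_succ', mul_smul, hm, smul_zero]⟩
    refine ⟨g ^ Nat.find hex * c, ?_, fun x hx => ?_⟩
    · rw [mul_smul]
      rcases Nat.eq_zero_or_pos (Nat.find hex) with h0 | hpos
      · rw [h0, pow_zero, one_smul]
        exact hc
      · obtain ⟨k, hk⟩ := Nat.exists_eq_succ_of_ne_zero hpos.ne'
        rw [hk]
        exact Nat.find_min hex (by omega)
    · rw [mul_smul]
      rcases List.mem_cons.1 hx with rfl | hx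
      · rw [← mul_smul, ← pow_succ']
        exact Nat.find_spec hex
      · rw [smul_comm, hl' x hx, smul_zero]

/-- Top cohomology of an object without maps to shifts of the ring vanishes. -/
theorem subsingleton_top {T : Dual.D A} [T.IsLE 0] (hT : DRing.IsPseudoCoherent A (-1) T)
    (hA : ∀ i : ℤ, Subsingleton (T ⟶ (Dual.inD A A)⟦i⟧)) : Subsingleton (Dual.HD A T 0) := by
  classical
  by_contra hM
  rw [not_subsingleton_iff_nontrivial] at hM
  haveI := hM
  haveI : Module.FinitePresentation A (Dual.HD A T 0) :=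
    finitePresentation_top (A := A) (T := T) 0 (show DRing.IsPseudoCoherent A (0 - 1) T by rwa [zero_sub])
  obtain ⟨I, hI, hne, q, hq⟩ := exists_cyclic_quotient (A := A) (Dual.HD A T 0)
  obtain ⟨s, hs⟩ := hI
  obtain ⟨X, hge, hle, hkill, ⟨π, hπ⟩, hvan⟩ := exists_cones T hA I s.toList
    fun g hg => hs ▸ Submodule.subset_span (Finset.mem_toList.1 hg)
  haveI := hge
  haveI : Nontrivial (A ⧸ I) := Ideal.Quotient.nontrivial_iff.2 hne
  have hex : ∃ k : ℕ, Nontrivial (Dual.HD A X (-(s.toList.length : ℤ) + k)) :=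
    ⟨s.toList.length, by rw [neg_add_cancel]; exact hπ.nontrivial⟩
  let p0 : ℤ := -(s.toList.length : ℤ) + (Nat.find hex : ℕ)
  have hbelow : ∀ j, j < p0 → Subsingleton (Dual.HD A X j) := fun j hj => by
    rcases lt_or_ge j (-(s.toList.length : ℤ)) with h | h
    · exact (isGE_iff_HD X _).1 hge j h
    · obtain ⟨k, rfl⟩ : ∃ k : ℕ, j = -(s.toList.length : ℤ) + k :=
        ⟨(j + s.toList.length).toNat, by omega⟩
      exact not_nontrivial_iff_subsingleton.1 (Nat.find_min hex (show k < Nat.find hex by omega))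
  haveI : X.IsGE p0 := (isGE_iff_HD X p0).2 hbelow
  haveI : (X⟦p0⟧).IsGE 0 := DerivedCategory.TStructure.t.isGE_shift X p0 p0 0 (by omega)
  haveI hnt : Nontrivial (Dual.HD A X p0) := Nat.find_spec hex
  obtain ⟨y, hy⟩ := exists_ne (0 : Dual.HD A X p0)
  obtain ⟨c, hc, hcl⟩ := exists_killed s.toList (fun g hg => by
    obtain ⟨m, hm⟩ := hkill g hg
    refine ⟨m, fun (y : Dual.HD A X p0) => ?_⟩
    have e : (HF A p0).map (g ^ m • 𝟙 X) = g ^ m • 𝟙 _ := DCat.DC.homologyFunctor_map_smul_id _ X p0
    rw [hm, Functor.map_zero] at e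
    exact (congrArg (fun f : (HF A p0).obj X ⟶ (HF A p0).obj X => f.hom y) e).symm) y hy
  let z : A ⧸ I →ₗ[A] Dual.HD A X p0 := I.liftQ (LinearMap.toSpanSingleton A _ (c • y)) (by
    rw [← hs, Submodule.span_le]
    intro g hg
    exact hcl g (Finset.mem_toList.2 hg))
  let eS := ((DerivedCategory.homologyFunctor (ModuleCat.{u} A) 0).shiftIso p0 0 p0 (add_zero p0)).app X
  let h : (HF A 0).obj T ⟶ (HF A 0).obj (X⟦p0⟧) := ModuleCat.ofHom (z ∘ₗ q) ≫ eS.inv
  obtain ⟨g, hg⟩ := (SerreTop.bijective_H0 T (X⟦p0⟧)).2 h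
  have hg0 : g = 0 := Subsingleton.elim (h := hvan p0) _ _
  simp only at hg
  rw [hg0, Functor.map_zero] at hg
  have h1 : ModuleCat.ofHom (z ∘ₗ q) = 0 := by
    rw [← cancel_mono eS.inv, zero_comp]
    exact hg.symm
  obtain ⟨m, hm⟩ := hq (Submodule.Quotient.mk 1)
  refine hc ?_
  have h2 : z (q m) = 0 := congrArg (fun f : ModuleCat.of A (Dual.HD A T 0) ⟶ ModuleCat.of A (Dual.HD A X p0) => f.hom m) h1
  rw [hm] at h2
  exact (one_smul A (c • y)).symm.trans h2

/-- A pseudo-coherent object without maps to shifts of the ring is zero. -/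
theorem isZero_of_vanish {T : Dual.D A} (hT : DRing.IsPseudoCoherent' A T)
    (hA : ∀ i : ℤ, Subsingleton (T ⟶ (Dual.inD A A)⟦i⟧)) : IsZero T := by
  obtain ⟨b₀, hb₀⟩ := exists_isLE_of_pc (pc_of_pc' hT 0)
  have step : ∀ b : ℤ, T.IsLE b → T.IsLE (b - 1) := fun b hb => by
    haveI : (T⟦b⟧).IsLE 0 := isLE_shift' T b b 0 (add_zero b)
    have hpc : DRing.IsPseudoCoherent A (-1) (T⟦b⟧) := pc_shift (pc_of_pc' hT (b - 1)) b (-1) (by omega)
    haveI := subsingleton_top hpc fun i =>
      haveI := hA (i - b)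
      haveI : Subsingleton (T⟦b⟧ ⟶ ((Dual.inD A A)⟦i - b⟧)⟦b⟧) :=
        ((Functor.FullyFaithful.ofFullyFaithful (shiftFunctor (Dual.D A) b)).map_bijective T
          ((Dual.inD A A)⟦i - b⟧)).2.subsingleton
      @Function.Injective.subsingleton _ _ _
        (Iso.homCongr (Iso.refl _) ((shiftFunctorAdd' (Dual.D A) (i - b) b i (by omega)).app (Dual.inD A A))).injective this
    haveI : Subsingleton (Dual.HD A T b) :=
      @Function.Injective.subsingleton _ _
        (((DerivedCategory.homologyFunctor (ModuleCat.{u} A) 0).shiftIso b 0 b (add_zero b)).app T).symm.toLinearEquiv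
        (((DerivedCategory.homologyFunctor (ModuleCat.{u} A) 0).shiftIso b 0 b (add_zero b)).app T).symm.toLinearEquiv.injective
        (by assumption)
    refine (isLE_iff_HD T _).2 fun i hi => ?_
    rcases eq_or_ne i b with rfl | hne
    · assumption
    · exact (isLE_iff_HD T b).1 hb i (by omega)
  have hall : ∀ k : ℕ, T.IsLE (b₀ - k) := fun k => by
    induction k with
    | zero => simpa using hb₀
    | succ k ih =>
      have := step _ ih
      rwa [show b₀ - ((k + 1 : ℕ) : ℤ) = b₀ - k - 1 by omega]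
  have hz : ∀ i, IsZero ((homologyFunctor (ModuleCat.{u} A) i).obj T) := fun i => by
    haveI := hall (b₀ - i + 1).toNat
    exact DerivedCategory.isZero_of_isLE T (b₀ - ((b₀ - i + 1).toNat : ℕ)) i (by omega)
  rw [IsZero.iff_id_eq_zero]
  haveI : IsIso (0 : T ⟶ T) := by
    rw [DerivedCategory.isIso_iff]
    intro i
    exact ⟨0, (hz i).eq_of_src _ _, (hz i).eq_of_src _ _⟩
  rw [← IsIso.hom_inv_id (0 : T ⟶ T), zero_comp]

/-- A pseudo-coherent object whose dual is the ring is the ring. -/
theorem isIso_of_dual {D : Dual.D A} (hD : DRing.IsPseudoCoherent' A D) (c : D ⟶ Dual.inD A A)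
    (hc : Function.Bijective fun a : A => a • c)
    (hz : ∀ i : ℤ, i ≠ 0 → Subsingleton (D ⟶ (Dual.inD A A)⟦i⟧)) : IsIso c := by
  obtain ⟨T, v, w, hT⟩ := distinguished_cocone_triangle c
  let S := Triangle.mk c v w
  refine (Triangle.isZero₃_iff_isIso₁ S hT).1 (isZero_of_vanish ?_ fun i => ?_)
  · have hfree : DRing.TermwiseFiniteFree ((HomologicalComplex.single (ModuleCat.{u} A) (ComplexShape.up ℤ) 0).obj
        (ModuleCat.of A A)) := fun i => by
      by_cases hi : i = 0
      · subst hi
        exact free_of_iso (HomologicalComplex.singleObjXSelf (ComplexShape.up ℤ) 0 (ModuleCat.of A A)).symm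
          ⟨inferInstanceAs (Module.Finite A A), inferInstanceAs (Module.Free A A)⟩
      · exact free_zero (HomologicalComplex.isZero_single_obj_X _ _ _ _ hi)
    refine pc'_of_forall fun m => pc_cone hT (pc_of_pc' hD (m + 1)) ?_
    exact pc_iso ((DerivedCategory.singleFunctorIsoCompQ (ModuleCat.{u} A) 0).app (ModuleCat.of A A)).symm (pc_of_pc'
      ⟨_, 0, fun i hi => HomologicalComplex.isZero_single_obj_X _ _ _ _ (by omega), hfree, ⟨Iso.refl _⟩⟩ m)
  · let U := Dual.inD A A
    refine subsingleton_of_forall_eq 0 fun x => ?_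
    have h0 : v ≫ x = 0 := by
      rcases eq_or_ne i 0 with rfl | hi
      · let sz := (shiftFunctorZero (Dual.D A) ℤ).app U
        obtain ⟨a, ha⟩ : ∃ a : A, a • 𝟙 U = v ≫ x ≫ sz.hom := by
          have hb := (Functor.FullyFaithful.ofFullyFaithful (singleFunctor (ModuleCat.{u} A) 0)).map_bijective
            (ModuleCat.of A A) (ModuleCat.of A A)
          obtain ⟨f, hf⟩ := hb.2 (v ≫ x ≫ sz.hom)
          refine ⟨f.hom (1 : A), ?_⟩
          rw [← hf, show f = f.hom (1 : A) • 𝟙 (ModuleCat.of A A) from ModuleCat.hom_ext (LinearMap.ext_ring (by simp)),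
            Functor.map_smul, CategoryTheory.Functor.map_id]
          simp [U]
        have ha0 : a = 0 := hc.1 (by
          show a • c = (0 : A) • c
          rw [zero_smul, ← Category.comp_id c, ← Linear.comp_smul, ha, ← Category.assoc,
            show c ≫ v = 0 from comp_distTriang_mor_zero₁₂ S hT, zero_comp])
        rw [ha0, zero_smul] at ha
        rw [← cancel_mono sz.hom, Category.assoc, zero_comp, ← ha]
      · haveI : Subsingleton (U ⟶ U⟦i⟧) := by
          haveI := hd_single_subsingleton (A := A) A i hi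
          exact (DualLib.eSelf U i).injective.subsingleton
        exact Subsingleton.elim _ _
    obtain ⟨y, rfl⟩ := Triangle.yoneda_exact₃ S hT x h0
    change D⟦(1 : ℤ)⟧ ⟶ U⟦i⟧ at y
    obtain ⟨y₀, hy₀⟩ := ((Functor.FullyFaithful.ofFullyFaithful (shiftFunctor (Dual.D A) (1 : ℤ))).map_bijective D (U⟦i - 1⟧)).2
      (y ≫ ((shiftFunctorAdd' (Dual.D A) (i - 1) 1 i (by omega)).app U).hom)
    rcases eq_or_ne i 1 with rfl | hi
    · obtain ⟨a, ha⟩ := hc.2 (y₀ ≫ ((shiftFunctorZero' (Dual.D A) ((1 : ℤ) - 1) (by omega)).app U).hom)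
      have ha' : y₀ = (a • c) ≫ ((shiftFunctorZero' (Dual.D A) ((1 : ℤ) - 1) (by omega)).app U).inv := by
        rw [show a • c = _ from ha, Category.assoc, Iso.hom_inv_id, Category.comp_id]
      show w ≫ y = 0
      have hy : y = (shiftFunctor (Dual.D A) (1 : ℤ)).map y₀ ≫
          ((shiftFunctorAdd' (Dual.D A) ((1 : ℤ) - 1) 1 1 (by omega)).app U).inv := by
        rw [hy₀, Category.assoc, Iso.hom_inv_id, Category.comp_id]
      rw [hy, ha', Functor.map_comp, Functor.map_smul, Linear.smul_comp, Linear.smul_comp, Linear.comp_smul,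
        ← Category.assoc, ← Category.assoc, show w ≫ c⟦(1 : ℤ)⟧' = 0 from comp_distTriang_mor_zero₃₁ S hT,
        zero_comp, zero_comp, smul_zero]
    · haveI := hz (i - 1) (by omega)
      have hy : y = 0 := by
        rw [← cancel_mono ((shiftFunctorAdd' (Dual.D A) (i - 1) 1 i (by omega)).app U).hom, ← hy₀,
          Subsingleton.elim y₀ 0, Functor.map_zero, zero_comp]
      show w ≫ y = 0
      rw [hy, comp_zero]

end Groth.Agent.Dual6Lib.RD
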