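import Groth.Agent.Dual6Lib.RD.Bidual
import Groth.Agent.Dual6Lib.RD.Vanish
import Groth.Agent.DualLib.ResidueHom
import Groth.Agent.CAlgSmall.PCZariski

/-!
# Uniqueness of relative dualizing complexes
-/

set_option autoImplicit false
set_option backward.isDefEq.respectTransparency false
set_option backward.defeqAttrib.useBackward true
set_option linter.style.haveILetI false
set_option linter.unusedSectionVars false

universe u

open CategoryTheory CategoryTheory.Limits CategoryTheory.Pretriangulated Opposite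
open scoped TensorProduct

attribute [local instance] HasDerivedCategory.standard

namespace Groth.Agent.Dual6Lib.RD

open Groth.Agent Groth.Agent.DualLib Groth.Agent.DualLib.Shriek Groth.Agent.DualLib.Omega Groth.Agent.DCat

section Shift

variable {A B C : Type u} [CommRing A] [CommRing B] [CommRing C]

/-- Base change followed by a right adjoint of restriction commutes with shifts. -/
theorem nonempty_shriek_shift (g : A →+* B) (hg : g.Flat) [DRing.HasLBaseChange g] {μ : B →+* C}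
    {Rμ : Dual.D B ⥤ Dual.D C} (adjμ : DRing.restrictD μ ⊣ Rμ) (X : Dual.D A) (k : ℤ) :
    Nonempty (Rμ.obj ((DRing.LBaseChange g).obj (X⟦k⟧)) ≅ (Rμ.obj ((DRing.LBaseChange g).obj X))⟦k⟧) := by
  letI := g.toAlgebra
  haveI : DRing.HasLBaseChange (algebraMap A B) := ‹DRing.HasLBaseChange g›
  have hg' : (algebraMap A B).Flat := hg
  haveI : Module.Flat A B := hg
  haveI := preservesFiniteLimits_flat (A := A) (B := B)
  haveI := preservesFiniteColimits_ext (A := A) (B := B)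
  obtain ⟨e⟩ := nonempty_LBaseChange_iso hg' (X⟦k⟧)
  obtain ⟨e'⟩ := nonempty_LBaseChange_iso hg' X
  obtain ⟨s⟩ := nonempty_shift_obj adjμ ((DRing.LBaseChange (algebraMap A B)).obj X) k
  exact ⟨Rμ.mapIso (e ≪≫ ((extD (algebraMap A B)).commShiftIso k).app X ≪≫
    (shiftFunctor (Dual.D B) k).mapIso e'.symm) ≪≫ s⟩

end Shift

variable {R A : Type u} [CommRing R] [CommRing A] [Algebra R A] [Module.Flat R A] {n : ℕ}
  {ψ : MvPolynomial (Fin n) R →ₐ[R] A} {F : DRing.Cx (MvPolynomial (Fin n) R)}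
  {π : F ⟶ sgl (P := MvPolynomial (Fin n) R) ((ModuleCat.restrictScalars ψ.toRingHom).obj (ModuleCat.of A A))}
  (h : Res ψ.toRingHom F n π) {Rψ : Dual.D (MvPolynomial (Fin n) R) ⥤ Dual.D A}
  (adj : DRing.restrictD ψ.toRingHom ⊣ Rψ)
  [DRing.HasLBaseChange (Algebra.TensorProduct.includeLeftRingHom : A →+* TensorProduct R A A)]
  {Rμ : Dual.D (TensorProduct R A A) ⥤ Dual.D A}
  (adjμ : DRing.restrictD (Algebra.TensorProduct.lmul' R (S := A)).toRingHom ⊣ Rμ)
  [DTen.HasLTen A] [DTen.HasRHom A]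

omit [DTen.HasLTen A] [DTen.HasRHom A] [DRing.HasLBaseChange (Algebra.TensorProduct.includeLeftRingHom : A →+* TensorProduct R A A)] in
lemma flat_includeLeft : (Algebra.TensorProduct.includeLeftRingHom : A →+* TensorProduct R A A).Flat :=
  (RingHom.flat_algebraMap_iff.2 (inferInstance : Module.Flat A (TensorProduct R A A)) :
    (algebraMap A (TensorProduct R A A)).Flat)

include adj adjμ in
/-- The rigidity functor on a dual. -/
theorem nonempty_shriek_rhom (E : DRing.Cx A) {b : ℤ} (hb : DRing.VanishesAbove E b) (hE : DRing.TermwiseFiniteFree E) :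
    Nonempty (Rμ.obj ((DRing.LBaseChange (Algebra.TensorProduct.includeLeftRingHom : A →+* TensorProduct R A A)).obj
        ((DTen.RHomR A (DerivedCategory.Q.obj E)).obj (om Rψ))) ≅
      (DTen.RHomR A (DerivedCategory.Q.obj E)).obj
        (Rμ.obj ((DRing.LBaseChange (Algebra.TensorProduct.includeLeftRingHom : A →+* TensorProduct R A A)).obj
          (om Rψ)))) := by
  let P := MvPolynomial (Fin n) R
  let S := TensorProduct R A A
  let φ := ψ.toRingHom
  let iL : A →+* S := Algebra.TensorProduct.includeLeftRingHom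
  let μ : S →+* A := (Algebra.TensorProduct.lmul' R (S := A)).toRingHom
  have hfE : DRing.TermwiseFlat E := fun i => by
    haveI := (hE i).2
    infer_instance
  have hEk : IsKFlatFor (modT A) E := isKFlatFor_of_vanishesAbove E b hb hfE
  have hpE' : ∀ i, Module.Projective S ((exF iL E).X i) := fun i => by
    haveI := (hE i).2
    haveI := (IsProjective.iff_projective (R := A) (E.X i)).1 inferInstance
    exact (IsProjective.iff_projective (R := S) _).2
      ((ModuleCat.extendRestrictScalarsAdj iL).map_projective (E.X i) inferInstance)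
  have hbE' : DRing.VanishesAbove (exF iL E) b := fun i hi => (ModuleCat.extendScalars.{u, u, u} iL).map_isZero (hb i hi)
  haveI : (exF iL E).IsKProjective := DCat.isKProjective_of_vanishesAbove _ b hbE' hpE'
  have hE'k : IsKFlatFor (modT S) (exF iL E) := isKFlatFor_of_vanishesAbove _ b hbE' fun i => by
    haveI := hpE' i
    infer_instance
  haveI : (DerivedCategory.Q.obj (sgl (P := P) P)).IsGE 0 := DerivedCategory.TStructure.t.isGE_of_iso
    ((DerivedCategory.singleFunctorIsoCompQ (ModuleCat.{u} P) 0).app (ModuleCat.of P P)) 0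
  obtain ⟨I, hI0, hI, -, ⟨eI⟩⟩ := DCat.Amplitude.exists_kInjective_rep
    (DerivedCategory.Q.obj (sgl (P := P) P)) (0 : ℤ)
  haveI := hI
  let J : DRing.Cx A := (coCx φ).obj I
  haveI : J.IsKInjective := isKInjective_coCx φ I
  obtain ⟨eJ⟩ := nonempty_value adj I
  let eω : DerivedCategory.Q.obj J ≅ om Rψ := eJ.symm ≪≫ Rψ.mapIso eI
  have hJ0 : ∀ q, q < 0 → IsZero (J.X q) := fun q hq =>
    (ModuleCat.coextendScalars.{u, u} φ).map_isZero (CochainComplex.isZero_of_isStrictlyGE I 0 q hq)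
  obtain ⟨I', j, hI', hj⟩ := enoughKInj_modules (A := S) (exF iL J)
  haveI := hI'
  haveI := hj
  haveI := isIso_homθ (I := J) hEk
  haveI := isKInjective_homCx hE'k I'
  haveI : ((coCx μ).obj I').IsKInjective := isKInjective_coCx μ I'
  haveI := isIso_homθ (I := (coCx μ).obj I') hEk
  haveI := quasiIso_homCxMap (P := exF iL E) j
  obtain ⟨l₁⟩ := CAlgSmall.PCZariski.nonempty_lbaseChange_iso iL flat_includeLeft (DRing.homCx E J)
  obtain ⟨l₂⟩ := CAlgSmall.PCZariski.nonempty_lbaseChange_iso iL flat_includeLeft J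
  obtain ⟨bc⟩ := nonempty_bcHom iL hE hb hJ0
  obtain ⟨v₁⟩ := nonempty_value adjμ (DRing.homCx (exF iL E) I')
  obtain ⟨v₂⟩ := nonempty_value adjμ I'
  obtain ⟨sec⟩ := nonempty_secHom iL μ (RingHom.ext fun a => by
    show (Algebra.TensorProduct.lmul' R (S := A)) (a ⊗ₜ[R] (1 : A)) = a
    simp) E I'
  let RR := DTen.RHomR A (DerivedCategory.Q.obj E)
  let LB := DRing.LBaseChange iL
  let a₁ : Rμ.obj (LB.obj (RR.obj (om Rψ))) ≅ Rμ.obj (DerivedCategory.Q.obj (DRing.homCx (exF iL E) I')) :=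
    Rμ.mapIso (LB.mapIso (RR.mapIso eω.symm ≪≫ (asIso (homθ E J)).symm) ≪≫ l₁ ≪≫
      DerivedCategory.Q.mapIso bc ≪≫ asIso (DerivedCategory.Q.map (DRing.homCxMap (exF iL E) j)))
  let a₂ : DerivedCategory.Q.obj ((coCx μ).obj I') ≅ Rμ.obj (LB.obj (om Rψ)) :=
    v₂.symm ≪≫ Rμ.mapIso ((asIso (DerivedCategory.Q.map j)).symm ≪≫ l₂.symm ≪≫ LB.mapIso eω)
  exact ⟨a₁ ≪≫ v₁ ≪≫ DerivedCategory.Q.mapIso sec ≪≫ asIso (homθ E ((coCx μ).obj I')) ≪≫ RR.mapIso a₂⟩

variable [DTen.HasLTen₃ A] [DTen.IsSymMonoidal A]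

include h adj adjμ in
/-- A relative dualizing complex is the shifted `ω`. -/
theorem nonempty_iso_om {K : Dual.D A} (hK : Dual2.IsRelDualizing R A Rμ K) :
    Nonempty (K ≅ (om Rψ)⟦(n : ℤ)⟧) := by
  obtain ⟨hperf, ⟨rK⟩⟩ := hK
  obtain ⟨-, ⟨rω⟩⟩ := isRelDualizing_om_shift h adj Rμ adjμ
  let U := Dual.inD A A
  let sh := shiftFunctor (Dual.D A) (-(n : ℤ))
  have hK' : Dual2.IsRelPerfect R A (sh.obj K) :=
    ⟨DRingLib.pc'_of_forall fun m => DRingLib.pc_shift (DRingLib.pc_of_pc' hperf.1 (m - n)) _ m (by omega),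
      TorAmpOps.finTor_iso (((DRing.restrictD (algebraMap R A)).commShiftIso (-(n : ℤ))).app K).symm
        (TorAmpOps.finTor_shift hperf.2 _)⟩
  obtain ⟨D, hD, ⟨eD⟩⟩ := exists_predual adj h hK'
  obtain ⟨E, b, hb, hE, ⟨eE⟩⟩ := hD
  obtain ⟨key⟩ := nonempty_shriek_rhom adj adjμ E hb hE
  let LB := DRing.LBaseChange (Algebra.TensorProduct.includeLeftRingHom : A →+* TensorProduct R A A)
  obtain ⟨s₁⟩ := nonempty_shriek_shift _ flat_includeLeft adjμ K (-(n : ℤ))
  obtain ⟨s₂⟩ := nonempty_shriek_shift _ flat_includeLeft adjμ (om Rψ) (n : ℤ)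
  let zω : Rμ.obj (LB.obj (om Rψ)) ≅ sh.obj U :=
    (shiftShiftNeg (Rμ.obj (LB.obj (om Rψ))) (n : ℤ)).symm ≪≫ sh.mapIso (s₂.symm ≪≫ rω)
  let RR := DTen.RHomR A (DerivedCategory.Q.obj E)
  let eK : sh.obj K ≅ RR.obj (om Rψ) := eD ≪≫ rhomCongr eE (om Rψ)
  obtain ⟨rs⟩ := exists_iso_RHomR_shift (DerivedCategory.Q.obj E) (-(n : ℤ)) U
  let eR : RR.obj U ≅ U := sh.preimageIso (rs ≪≫ RR.mapIso zω.symm ≪≫ key.symm ≪≫
    Rμ.mapIso (LB.mapIso eK.symm) ≪≫ s₁ ≪≫ sh.mapIso rK)
  let X := DerivedCategory.Q.obj E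
  have hz : ∀ i : ℤ, i ≠ 0 → Subsingleton (X ⟶ U⟦i⟧) := fun i hi => by
    haveI := hd_single_subsingleton (A := A) A i hi
    haveI : Subsingleton (Dual.HD A (RR.obj U) i) :=
      ((DerivedCategory.homologyFunctor (ModuleCat.{u} A) i).mapIso eR).toLinearEquiv.injective.subsingleton
    exact (hdRHom X U i).symm.injective.subsingleton
  let z : (X ⟶ U⟦(0 : ℤ)⟧) ≃ₗ[A] (X ⟶ U) :=
    { toFun := fun φ => φ ≫ (shiftFunctorZero (Dual.D A) ℤ).hom.app U
      invFun := fun φ => φ ≫ (shiftFunctorZero (Dual.D A) ℤ).inv.app U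
      left_inv := fun φ => by simp
      right_inv := fun φ => by simp
      map_add' := fun φ ψ => Preadditive.add_comp _ _ _ _ _ _
      map_smul' := fun a φ => Linear.smul_comp _ _ _ _ _ _ }
  let e : A ≃ₗ[A] (X ⟶ U) :=
    ((DRingLib.hfInD (R := A) A).symm ≪≫
      (DerivedCategory.homologyFunctor (ModuleCat.{u} A) 0).mapIso eR.symm).toLinearEquiv.trans
      ((hdRHom X U 0).trans z)
  have hc : Function.Bijective fun a : A => a • e 1 := by
    have : (fun a : A => a • e 1) = e := funext fun a => by rw [← map_smul, smul_eq_mul, mul_one]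
    rw [this]
    exact e.bijective
  haveI := isIso_of_dual (D := X) ⟨E, b, hb, hE, ⟨Iso.refl _⟩⟩ (e 1) hc hz
  let eU : DTen.unit A ≅ U :=
    ((DerivedCategory.singleFunctorIsoCompQ (ModuleCat.{u} A) 0).app (ModuleCat.of A A)).symm
  let eK' : sh.obj K ≅ om Rψ := eK ≪≫ rhomCongr (eU ≪≫ (asIso (e 1)).symm) (om Rψ) ≪≫ rhomUnit (om Rψ)
  exact ⟨(shiftNegShift K (n : ℤ)).symm ≪≫ (shiftFunctor (Dual.D A) (n : ℤ)).mapIso eK'⟩

end Groth.Agent.Dual6Lib.RD

namespace Groth.Agent.Dual6Lib.RD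

open Groth.Agent Groth.Agent.DualLib Groth.Agent.DualLib.Shriek Groth.Agent.DualLib.Omega

/-- A relative dualizing complex is the model one, for any presentation. -/
theorem nonempty_iso_om' {R A : Type u} [CommRing R] [CommRing A] [Algebra R A] [Module.Flat R A] {n : ℕ}
    {ψ : MvPolynomial (Fin n) R →ₐ[R] A} {F : DRing.Cx (MvPolynomial (Fin n) R)}
    {π : F ⟶ sgl (P := MvPolynomial (Fin n) R) ((ModuleCat.restrictScalars ψ.toRingHom).obj (ModuleCat.of A A))}
    (h : Res ψ.toRingHom F n π) {Rψ : Dual.D (MvPolynomial (Fin n) R) ⥤ Dual.D A}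
    (adj : DRing.restrictD ψ.toRingHom ⊣ Rψ)
    [DRing.HasLBaseChange (Algebra.TensorProduct.includeLeftRingHom : A →+* TensorProduct R A A)]
    {Rμ : Dual.D (TensorProduct R A A) ⥤ Dual.D A}
    (adjμ : DRing.restrictD (Algebra.TensorProduct.lmul' R (S := A)).toRingHom ⊣ Rμ)
    {K : Dual.D A} (hK : Dual2.IsRelDualizing R A Rμ K) : Nonempty (K ≅ (om Rψ)⟦(n : ℤ)⟧) := by
  haveI := DCat.hasLTen A
  haveI := DCat.hasLTen₃ A
  haveI : DTen.HasRHom A := DCat.hasRHom
  haveI : DTen.IsSymMonoidal A := DualLib.isSymMonoidal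
  exact nonempty_iso_om h adj adjμ hK

end Groth.Agent.Dual6Lib.RD
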