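import Groth.Agent.DualLib.OmegaRelDual
import Groth.Agent.AlgSpLib.FppfRing
import Groth.Agent.DRingLib.PCRestrict
import Groth.Agent.DRingLib.PCPerf
import Groth.Agent.DualLib.TorAmpOps
import Groth.Agent.Dual6Lib.RD.Amp

/-!
# The relative dualizing complex of a flat finitely presented algebra
-/

set_option autoImplicit false
set_option backward.isDefEq.respectTransparency false
set_option backward.defeqAttrib.useBackward true
set_option linter.style.haveILetI false
set_option linter.unusedSectionVars false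

universe u

open CategoryTheory CategoryTheory.Limits DerivedCategory MvPolynomial
open scoped TensorProduct

attribute [local instance] HasDerivedCategory.standard

namespace Groth.Agent.Dual6Lib.RD

open Groth.Agent Groth.Agent.DualLib Groth.Agent.DualLib.Shriek Groth.Agent.DualLib.Omega

/-- A resolution transports along an isomorphism of the target. -/
theorem exists_res_of_equiv {P B B' : Type u} [CommRing P] [CommRing B] [CommRing B'] {φ : P →+* B}
    {F : DRing.Cx P} {n : ℕ} {π : F ⟶ sgl (P := P) ((ModuleCat.restrictScalars φ).obj (ModuleCat.of B B))}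
    (h : Res φ F n π) (e : B ≃+* B') (φ' : P →+* B') (hφ : φ' = e.toRingHom.comp φ) :
    ∃ π' : F ⟶ sgl (P := P) ((ModuleCat.restrictScalars φ').obj (ModuleCat.of B' B')), Res φ' F n π' := by
  subst hφ
  let l : (ModuleCat.restrictScalars φ).obj (ModuleCat.of B B) ≃ₗ[P]
      (ModuleCat.restrictScalars (e.toRingHom.comp φ)).obj (ModuleCat.of B' B') :=
    { toFun := fun x => e x
      invFun := fun x => e.symm x
      left_inv := fun x => e.symm_apply_apply x
      right_inv := fun x => e.apply_symm_apply x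
      map_add' := fun x y => map_add e x y
      map_smul' := fun p x => map_mul e (φ p) x }
  haveI := h.qis
  refine ⟨π ≫ (HomologicalComplex.single (ModuleCat.{u} P) (ComplexShape.up ℤ) 0).map
      (l.toModuleIso (m₁ := inferInstance)).hom, ⟨e.surjective.comp h.surj, ?_, h.kproj, h.van, h.fp⟩⟩
  infer_instance

/-- A finite resolution exists for every flat finitely presented algebra. -/
theorem exists_res_flat (R A : Type u) [CommRing R] [CommRing A] [Algebra R A] [Module.Flat R A]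
    [Algebra.FinitePresentation R A] :
    ∃ (n : ℕ) (ψ : MvPolynomial (Fin n) R →ₐ[R] A) (F : DRing.Cx (MvPolynomial (Fin n) R))
      (π : F ⟶ sgl (P := MvPolynomial (Fin n) R) ((ModuleCat.restrictScalars ψ.toRingHom).obj (ModuleCat.of A A))),
      Res ψ.toRingHom F n π := by
  obtain ⟨C, _, _, B₀, _, _, hC, hB, hflat, ⟨e⟩⟩ := AlgSpLib.FppfRing.exists_flat_model R A
  haveI := hC
  haveI := hB
  haveI := hflat
  haveI : IsNoetherianRing C := Algebra.FiniteType.isNoetherianRing ℤ C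
  obtain ⟨n, ψ₀, hψ₀⟩ := Algebra.FiniteType.iff_quotient_mvPolynomial''.1 (inferInstance : Algebra.FiniteType C B₀)
  obtain ⟨F₀, π₀, h₀⟩ := Omega.exists_res ψ₀ hψ₀
  obtain ⟨π', h'⟩ := exists_res_baseChange (R' := R) ψ₀ h₀
  obtain ⟨π'', h''⟩ := exists_res_of_equiv h' e.toRingEquiv (e.toAlgHom.comp (bcAlg (R' := R) ψ₀)).toRingHom rfl
  exact ⟨n, _, _, π'', h''⟩

variable {R A : Type u} [CommRing R] [CommRing A] [Algebra R A] {n : ℕ} {ψ : MvPolynomial (Fin n) R →ₐ[R] A}
  {F : DRing.Cx (MvPolynomial (Fin n) R)}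
  {π : F ⟶ sgl (P := MvPolynomial (Fin n) R) ((ModuleCat.restrictScalars ψ.toRingHom).obj (ModuleCat.of A A))}
  (h : Res ψ.toRingHom F n π)
  {Rψ : Dual.D (MvPolynomial (Fin n) R) ⥤ Dual.D A} (adj : DRing.restrictD ψ.toRingHom ⊣ Rψ)

include h in
/-- The algebra is pseudo-coherent over the polynomial ring. -/
theorem pc_algebra (m : ℤ) :
    DRing.IsPseudoCoherentModule (MvPolynomial (Fin n) R) m
      ((ModuleCat.restrictScalars.{u} ψ.toRingHom).obj (ModuleCat.of A A)) := by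
  haveI := h.qis
  exact DRingLib.pc_iso (asIso (Q.map π) ≪≫
      ((DerivedCategory.singleFunctorIsoCompQ (ModuleCat.{u} (MvPolynomial (Fin n) R)) 0).app _).symm)
    (DRingLib.pc_of_pc' (DRingLib.pc'_of_perfect ⟨F, -(n : ℤ), 0, h.van, h.fp, ⟨Iso.refl _⟩⟩) m)

include h in
/-- Pseudo-coherence is detected over the polynomial ring. -/
theorem pc'_of_perfect_restrict {Z : Dual.D A}
    (hZ : DRing.IsPerfect (MvPolynomial (Fin n) R) ((DRing.restrictD ψ.toRingHom).obj Z)) :
    DRing.IsPseudoCoherent' A Z :=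
  DRingLib.pc'_of_forall fun m => (DRingLib.pc_restrict_iff (pc_algebra h) Z m).2
    (DRingLib.pc_of_pc' (DRingLib.pc'_of_perfect hZ) m)

include h adj in
/-- The restriction of `ω` to the polynomial ring is perfect. -/
theorem exists_restrict_om :
    DRing.VanishesOutside (Cdual F) 0 (n : ℤ) ∧ DRing.TermwiseFiniteProjective (Cdual F) ∧
      Nonempty (Q.obj (Cdual F) ≅ (DRing.restrictD ψ.toRingHom).obj (om Rψ)) := by
  haveI := h.qis
  haveI := h.kproj
  obtain ⟨v⟩ := nonempty_restrict_value adj π (sgl (P := MvPolynomial (Fin n) R) (MvPolynomial (Fin n) R))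
  refine ⟨fun i hi => ?_, fun i => ?_, ⟨v.symm⟩⟩
  · haveI : Subsingleton (F.X (-i) →ₗ[MvPolynomial (Fin n) R] MvPolynomial (Fin n) R) := by
      haveI := ModuleCat.subsingleton_of_isZero (h.van (-i) (by omega))
      infer_instance
    haveI : Subsingleton (CochainComplex.HomComplex.Cochain F (sgl (P := MvPolynomial (Fin n) R) (MvPolynomial (Fin n) R)) i) :=
      (evSgl F (MvPolynomial (Fin n) R) (-i) i (by omega)).injective.subsingleton
    exact ModuleCat.isZero_of_subsingleton (ModuleCat.of (MvPolynomial (Fin n) R)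
      (CochainComplex.HomComplex.Cochain F (sgl (P := MvPolynomial (Fin n) R) (MvPolynomial (Fin n) R)) i))
  · haveI := (h.fp (-i)).1
    haveI := (h.fp (-i)).2
    exact ⟨Module.Finite.equiv (evSgl F (MvPolynomial (Fin n) R) (-i) i (by omega)).symm, projective_Cdual F h.fp i⟩

include h adj in
/-- `ω` is relatively perfect. -/
theorem isRelPerfect_om_shift : Dual2.IsRelPerfect R A ((om Rψ)⟦(n : ℤ)⟧) := by
  obtain ⟨hv, hp, ⟨v⟩⟩ := exists_restrict_om h adj
  have hpc : DRing.IsPseudoCoherent' A (om Rψ) :=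
    pc'_of_perfect_restrict h ⟨Cdual F, 0, n, hv, hp, ⟨v⟩⟩
  refine ⟨DRingLib.pc'_of_forall fun m => DRingLib.pc_shift (DRingLib.pc_of_pc' hpc (m + n)) n m (by omega), ?_⟩
  let g := algebraMap R (MvPolynomial (Fin n) R)
  have h1 : DRing.HasFiniteTorDimCx R ((DRing.restrictD g).obj ((DRing.restrictD ψ.toRingHom).obj (om Rψ))) := by
    refine ⟨0, n, (DRing.restrictCx g).obj (Cdual F), fun i hi => (ModuleCat.restrictScalars g).map_isZero (hv i hi),
      fun i => ?_, ⟨((ModuleCat.restrictScalars.{u} g).mapDerivedCategoryFactors.app (Cdual F)).symm ≪≫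
        (DRing.restrictD g).mapIso v⟩⟩
    haveI := (h.fp (-i)).1
    haveI := (h.fp (-i)).2
    exact flat_dualR (R := R) F i
  obtain ⟨c⟩ := nonempty_restrictD_comp g ψ.toRingHom (algebraMap R A) ψ.comp_algebraMap.symm (om Rψ)
  exact TorAmpOps.finTor_iso (((DRing.restrictD (algebraMap R A)).commShiftIso (n : ℤ)).app (om Rψ)).symm
    (TorAmpOps.finTor_shift (TorAmpOps.finTor_iso c h1) _)

include h adj in
/-- `ω` is relatively dualizing. -/
theorem isRelDualizing_om_shift
    [DRing.HasLBaseChange (Algebra.TensorProduct.includeLeftRingHom : A →+* TensorProduct R A A)] [Module.Flat R A]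
    (Rμ : Dual.D (TensorProduct R A A) ⥤ Dual.D A)
    (adjμ : DRing.restrictD (Algebra.TensorProduct.lmul' R (S := A)).toRingHom ⊣ Rμ) :
    Dual2.IsRelDualizing R A Rμ ((om Rψ)⟦(n : ℤ)⟧) := by
  refine ⟨isRelPerfect_om_shift h adj, ?_⟩
  let ω := (om Rψ)⟦(n : ℤ)⟧
  let μ := (Algebra.TensorProduct.lmul' R (S := A)).toRingHom
  let σ := (Algebra.TensorProduct.comm R A A).toRingEquiv.toRingHom
  let iL : A →+* TensorProduct R A A := Algebra.TensorProduct.includeLeftRingHom
  let iR := (Algebra.TensorProduct.includeRight : A →ₐ[R] A ⊗[R] A).toRingHom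
  have hσ : iL = σ.comp iR := RingHom.ext fun a => rfl
  have hμσ : μ = μ.comp σ := by
    refine RingHom.ext fun z => ?_
    induction z using TensorProduct.induction_on with
    | zero => simp
    | tmul a b =>
      show (Algebra.TensorProduct.lmul' R (S := A)) (a ⊗ₜ b) = (Algebra.TensorProduct.lmul' R (S := A)) (b ⊗ₜ a)
      simp [mul_comm]
    | add x y hx hy => simp only [map_add, hx, hy]
  haveI := DCat.hasLBaseChange iR
  haveI := DCat.hasLBaseChange (algebraMap A (MvPolynomial (Fin n) A))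
  obtain ⟨Rψ', ⟨adj'⟩⟩ := exists_rightAdjoint (bcAlg (R' := A) ψ).toRingHom
  obtain ⟨eBC⟩ := nonempty_LBaseChange_om_shift (R' := A) ψ h adj adj' (n : ℤ)
  obtain ⟨N, ⟨eN⟩, hN⟩ := Shriek.exists_rep ω
  obtain ⟨bL⟩ := hN iL
  obtain ⟨bR⟩ := hN iR
  obtain ⟨Rσ, ⟨adjσ⟩⟩ := exists_rightAdjoint σ
  obtain ⟨fσ⟩ := frob_of_bijective σ (Algebra.TensorProduct.comm R A A).toRingEquiv.bijective Rσ adjσ ((exCx iR).obj N)
  obtain ⟨cσ⟩ := nonempty_comp_obj hμσ adjσ adjμ adjμ (Q.obj ((exCx iR).obj N))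
  let π' := μ.comp (bcAlg (R' := A) ψ).toRingHom
  have hπ : π'.comp C = RingHom.id A := RingHom.ext fun a => by
    show (Algebra.TensorProduct.lmul' R (S := A)) (bcAlg (R' := A) ψ (algebraMap A _ a)) = a
    rw [AlgHom.commutes, Algebra.TensorProduct.algebraMap_apply]
    simp
  obtain ⟨Rπ, ⟨adjπ⟩⟩ := exists_rightAdjoint π'
  let e₁ : Rμ.obj ((DRing.LBaseChange iL).obj ω) ≅ Rμ.obj ((om Rψ')⟦(n : ℤ)⟧) :=
    Rμ.mapIso (bL ≪≫ Q.mapIso (exComp iR σ iL hσ N) ≪≫ fσ.symm) ≪≫ cσ.symm ≪≫ Rμ.mapIso (bR.symm ≪≫ eBC)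
  let P' := MvPolynomial (Fin n) A
  obtain ⟨c⟩ := nonempty_comp_obj (h := π') rfl adj' adjμ adjπ (Q.obj (sgl (P := P') P'))
  obtain ⟨s⟩ := nonempty_shift_obj adjμ (om Rψ') (n : ℤ)
  obtain ⟨t⟩ := nonempty_shriekVia_trivial n π' hπ Rπ adjπ (Dual.inD A A)
  haveI := preservesFiniteLimits_flat (A := A) (B := P')
  haveI := preservesFiniteColimits_ext (A := A) (B := P')
  obtain ⟨b₁⟩ := nonempty_LBaseChange_iso (RingHom.flat_algebraMap_iff.2 (inferInstance : Module.Flat A P')) (Dual.inD A A)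
  obtain ⟨eP⟩ := nonempty_ext_tensor (B := P') (ModuleCat.of A A)
  let b : (DRing.LBaseChange (algebraMap A P')).obj (Dual.inD A A) ≅ Q.obj (sgl (P := P') P') :=
    b₁ ≪≫ extSingle (B := P') A ≪≫ (singleFunctor (ModuleCat.{u} P') 0).mapIso
      (eP ≪≫ₗ TensorProduct.AlgebraTensorModule.rid A P' P').toModuleIso ≪≫
      (DerivedCategory.singleFunctorIsoCompQ (ModuleCat.{u} P') 0).app _
  exact ⟨e₁ ≪≫ s ≪≫ (shiftFunctor (Dual.D A) (n : ℤ)).mapIso (c.symm ≪≫ Rπ.mapIso b.symm) ≪≫ t⟩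

include h adj in
/-- Endomorphisms of `ω`. -/
theorem bijective_om_shift :
    Function.Bijective (fun a : A => a • 𝟙 ((om Rψ)⟦(n : ℤ)⟧)) ∧
      ∀ i : ℤ, i ≠ 0 → Subsingleton ((om Rψ)⟦(n : ℤ)⟧ ⟶ ((om Rψ)⟦(n : ℤ)⟧)⟦i⟧) := by
  refine ⟨bijective_smul_id_shift _ _ (bijective_smul_id h adj), fun i hi => ?_⟩
  haveI := subsingleton_self_shift h adj i hi
  haveI : Subsingleton ((om Rψ)⟦(n : ℤ)⟧ ⟶ ((om Rψ)⟦i⟧)⟦(n : ℤ)⟧) :=
    ((Functor.FullyFaithful.ofFullyFaithful (shiftFunctor (Dual.D A) (n : ℤ))).map_bijective _ _).2.subsingleton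
  exact (Iso.homCongr (Iso.refl _) (shiftComm (om Rψ) (n : ℤ) i)).injective.subsingleton

end Groth.Agent.Dual6Lib.RD
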